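import Mathlib
import Cfsg.Agent.H237.PL.Tor
import Cfsg.Agent.H237.PL.Quot
import Cfsg.Agent.H431.CS.Defs
import Cfsg.Agent.S0293

/-!
# S3677, `lat_plus_odd`: the centralizer orders of `PΩ⁺_{2n}(q)`, `n` odd (helper237)
-/

set_option autoImplicit false

universe u v w

namespace Cfsg.Agent.H237.PL

open Module Polynomial
open Cfsg.Agent.LieClassical.OrthCore
open Cfsg.Agent.H431.CS Cfsg.Agent.H370.AAM

/-! ### arithmetic -/

theorem fact_pow_mul {p c e X : ℕ} (hp : p.Prime) (hX : ¬ p ∣ X) (h : c = p ^ e * X) : c.factorization p = e := by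
  have hX0 : X ≠ 0 := by rintro rfl; exact hX (dvd_zero p)
  rw [h, Nat.factorization_mul (pow_ne_zero _ hp.ne_zero) hX0, hp.factorization_pow]
  simp [Nat.factorization_eq_zero_of_not_dvd hX]

theorem not_dvd_pow_sub {p q j : ℕ} (hp : p.Prime) (hq : 1 ≤ q) (hpq : p ∣ q) (hj : 0 < j) : ¬ p ∣ q ^ j - 1 := by
  intro h
  have h1 : p ∣ q ^ j := dvd_pow hpq (by omega)
  have h2 : 1 ≤ q ^ j := Nat.one_le_pow _ _ (by omega)
  have h3 : p ∣ 1 := by
    have := (Nat.dvd_sub h1 h)
    rwa [Nat.sub_sub_self h2] at this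
  exact hp.one_lt.ne' (Nat.dvd_one.1 h3)

/-- the `p`-part of `|GL_m(q^k)|` -/
theorem fact_glCard {p f k m : ℕ} (hp : p.Prime) (hf : 1 ≤ f) (hk : 0 < k) :
    (H326.CGU.glCard m ((p ^ f) ^ k)).factorization p = f * k * (m * (m - 1) / 2) := by
  have hQ : (p ^ f) ^ k = p ^ (f * k) := (pow_mul p f k).symm
  rw [H326.CGU.glCard_eq]
  refine fact_pow_mul hp (X := ∏ i ∈ Finset.range m, (((p ^ f) ^ k) ^ (i + 1) - 1)) ?_ ?_
  · rw [Prime.dvd_finsetProd_iff hp.prime]
    rintro ⟨i, -, hi⟩
    refine not_dvd_pow_sub hp ?_ ?_ (Nat.succ_pos i) hi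
    · exact Nat.one_le_pow _ _ (Nat.pow_pos hp.pos)
    · rw [hQ]
      exact dvd_pow_self p (Nat.mul_pos hf hk).ne'
  · rw [hQ, ← pow_mul]

theorem val_eq {n k m f : ℕ} (h : n = k * m) (hn : Odd n) : f * k * (m * (m - 1) / 2) = f * n * ((m - 1) / 2) := by
  have hm : Odd m := (Nat.odd_mul.1 (h ▸ hn)).2
  obtain ⟨j, rfl⟩ := hm
  have e1 : (2 * j + 1) * (2 * j + 1 - 1) / 2 = (2 * j + 1) * j := by
    rw [Nat.add_sub_cancel, show (2 * j + 1) * (2 * j) = 2 * ((2 * j + 1) * j) by ring]
    exact Nat.mul_div_cancel_left _ (by norm_num)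
  have e2 : (2 * j + 1 - 1) / 2 = j := by omega
  rw [e1, e2, h]
  ring

theorem mem_of_coprime_pow {G : Type*} [Group G] {N : Subgroup G} {g : G} {a b : ℕ} (hab : a.Coprime b)
    (ha : g ^ a ∈ N) (hb : g ^ b ∈ N) : g ∈ N := by
  have h := Nat.gcd_eq_gcd_ab a b
  rw [hab.gcd_eq_one] at h
  have h1 : g = (g ^ a) ^ (Nat.gcdA a b) * (g ^ b) ^ (Nat.gcdB a b) := by
    rw [← zpow_natCast, ← zpow_natCast, ← zpow_mul, ← zpow_mul, ← zpow_add, ← h]
    simp
  rw [h1]
  exact N.mul_mem (N.zpow_mem ha _) (N.zpow_mem hb _)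

/-! ### the centre -/

section

variable {F : Type v} [Field F] {K : Type w} [Field K] [Algebra F K]

theorem coe_Tw_neg_one : ((Tw (-1) : O (HQ F K)) : (Dual F K × K) ≃ₗ[F] (Dual F K × K)) = LinearEquiv.neg F := by
  apply LinearEquiv.ext
  intro x
  rw [Tw_apply]
  show _ = -x
  apply Prod.ext
  · ext a
    rw [rho_apply]
    show x.1 (((-1 : Kˣ)⁻¹ : Kˣ) * a) = -(x.1 a)
    rw [inv_neg, inv_one, Units.val_neg, Units.val_one, neg_one_mul, map_neg]
  · show ((-1 : Kˣ) : K) * x.2 = -x.2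
    rw [Units.val_neg, Units.val_one, neg_one_mul]

theorem cq [FiniteDimensional F K] (hn : 2 ≤ finrank F K) : CQ (commutator (O (HQ F K))) (Tw (-1)) where
  cen g := by
    apply Subtype.ext
    rw [Subgroup.coe_mul, Subgroup.coe_mul, coe_Tw_neg_one]
    apply LinearEquiv.ext
    intro x
    show -((g : (Dual F K × K) ≃ₗ[F] (Dual F K × K)) x) = (g : (Dual F K × K) ≃ₗ[F] (Dual F K × K)) (-x)
    rw [map_neg]
  sq := by
    rw [← map_mul, neg_mul_neg, one_mul, map_one]
  mem z := by
    rw [mem_center hn z, ← coe_Tw_neg_one]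
    refine or_congr ?_ ?_
    · exact ⟨fun h => Subtype.ext h, fun h => by rw [h]; rfl⟩
    · exact ⟨fun h => Subtype.ext h, fun h => by rw [h]⟩

theorem mk_Tw_eq_one [FiniteDimensional F K] (hn : 2 ≤ finrank F K) {w : Kˣ} (hw : w ^ 2 = 1)
    (h : Tw w ∈ commutator (O (HQ F K))) :
    (QuotientGroup.mk (⟨Tw w, h⟩ : commutator (O (HQ F K))) :
      commutator (O (HQ F K)) ⧸ Subgroup.center (commutator (O (HQ F K)))) = 1 := by
  rw [QuotientGroup.eq_one_iff, (cq hn).mem]
  have h1 : ((w : K) - 1) * ((w : K) + 1) = 0 := by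
    have h2 : (w : K) ^ 2 = 1 := by rw [← Units.val_pow_eq_pow_val, hw, Units.val_one]
    linear_combination h2
  rcases mul_eq_zero.1 h1 with h3 | h3
  · left
    have : w = 1 := Units.ext (by rw [Units.val_one]; linear_combination h3)
    show Tw w = 1
    rw [this, map_one]
  · right
    have : w = -1 := Units.ext (by rw [Units.val_neg, Units.val_one]; linear_combination h3)
    show Tw w = Tw (-1)
    rw [this]

end

/-! ### the main computation -/

section core

variable {F : Type v} [Field F] [Fintype F] {K : Type w} [Field K] [Algebra F K] [FiniteDimensional F K]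

/-- an element of order `r` generates `K` -/
theorem degree_of_order {n r : ℕ} (hn : finrank F K = n) (ho : orderOf ((Nat.card F : ℕ) : ZMod r) = n) {ζ : Kˣ}
    (hζ : orderOf ζ = r) : (minpoly F (ζ : K)).natDegree = n := by
  have : Finite K := Module.finite_of_finite F
  set k := (minpoly F (ζ : K)).natDegree with hk
  have hk0 : 0 < k := minpoly.natDegree_pos (Algebra.IsIntegral.isIntegral (R := F) (ζ : K))
  have hkn : k ∣ n := hn ▸ minpoly.degree_dvd (Algebra.IsIntegral.isIntegral (ζ : K))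
  have h1 := (mem_iff_pow (IntermediateField.adjoin F {(ζ : K)}) (ζ : K)).1
    (IntermediateField.mem_adjoin_simple_self F (ζ : K))
  have h2 : Nat.card (IntermediateField.adjoin F {(ζ : K)}) = Nat.card F ^ k := by
    rw [hk, ← IntermediateField.adjoin.finrank (Algebra.IsIntegral.isIntegral (ζ : K))]
    exact Module.natCard_eq_pow_finrank
  rw [h2] at h1
  have hq : 1 ≤ Nat.card F ^ k := Nat.one_le_pow _ _ Nat.card_pos
  have h3 : ζ ^ (Nat.card F ^ k - 1) = 1 := by
    apply Units.ext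
    rw [Units.val_pow_eq_pow_val, Units.val_one]
    have h4 : (ζ : K) * (ζ : K) ^ (Nat.card F ^ k - 1) = (ζ : K) := by
      rw [← pow_succ', Nat.sub_add_cancel hq, h1]
    exact mul_left_cancel₀ ζ.ne_zero (by rw [h4, mul_one])
  have h4 : r ∣ Nat.card F ^ k - 1 := by rw [← hζ]; exact orderOf_dvd_of_pow_eq_one h3
  have h5 : ((Nat.card F : ℕ) : ZMod r) ^ k = 1 := by
    have h6 : ((Nat.card F ^ k - 1 : ℕ) : ZMod r) = 0 := (ZMod.natCast_eq_zero_iff _ _).2 h4
    rw [Nat.cast_sub hq, Nat.cast_pow, Nat.cast_one] at h6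
    linear_combination h6
  have h6 : n ∣ k := by rw [← ho]; exact orderOf_dvd_of_pow_eq_one h5
  exact Nat.dvd_antisymm hkn h6

/-- the centralizer of `Tw ζ` -/
theorem exists_Tw (hodd : Odd (finrank F K)) {ζ : Kˣ} (hdeg : (minpoly F (ζ : K)).natDegree = finrank F K)
    (hζ : ζ ^ 2 ≠ 1) {g : O (HQ F K)} (hg : g * Tw ζ = Tw ζ * g) : ∃ w : Kˣ, Tw w = g := by
  obtain ⟨A, hA, h1⟩ := (mem_comm_iff hodd hζ g).1 hg
  have htop : IntermediateField.adjoin F {(ζ : K)} = ⊤ := by
    apply IntermediateField.eq_of_le_of_finrank_eq le_top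
    rw [IntermediateField.adjoin.finrank (Algebra.IsIntegral.isIntegral (ζ : K)), hdeg, IntermediateField.finrank_top']
  have h2 : ∀ a : K, A a = a * A 1 := by
    intro a
    have h3 := comm_of_mem (F := F) (w := (ζ : K)) (a := a) (by rw [htop]; trivial) (A := (A : K →ₗ[F] K)) h1 1
    rw [mul_one] at h3
    exact h3
  have h3 : A 1 ≠ 0 := fun h => one_ne_zero (A.map_eq_zero_iff.1 h)
  refine ⟨Units.mk0 (A 1) h3, ?_⟩
  rw [← hA]
  show DO (mu _) = DO A
  congr 1
  ext a
  rw [mu_apply, Units.val_mk0, h2 a, mul_comm]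

end core

/-! ### the quotient -/

/-- the simple group -/
abbrev SQ (F : Type v) [Field F] (K : Type w) [Field K] [Algebra F K] :=
  commutator (O (HQ F K)) ⧸ Subgroup.center (commutator (O (HQ F K)))

section final

variable {F : Type v} [Field F] [Fintype F] {K : Type w} [Field K] [Algebra F K] [FiniteDimensional F K]
  {p f n r : ℕ}

theorem finite_O : Finite (O (HQ F K)) := by
  have : Finite K := Module.finite_of_finite F
  have : Finite (Dual F K) := Module.finite_of_finite F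
  have : Finite ((Dual F K × K) ≃ₗ[F] (Dual F K × K)) :=
    Finite.of_injective (fun g => (g : Dual F K × K → Dual F K × K)) DFunLike.coe_injective
  infer_instance

theorem index_dvd_four (hp : p.Prime) (hF : Fintype.card F = p ^ f) (hK : finrank F K = n) (hn : 3 ≤ n) :
    (commutator (O (HQ F K))).index ∣ 4 ∧ (p = 2 → (commutator (O (HQ F K))).index = 2) := by
  have := Fact.mk hp
  have hch : CharP F p := charP_of_card_eq_prime_pow hF
  by_cases h2 : p = 2
  · subst h2
    have h := index_two (F := F) (M := K) (by omega)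
    exact ⟨by rw [h]; norm_num, fun _ => h⟩
  · have h3 : (2 : F) ≠ 0 := by
      intro h
      have h4 : ((2 : ℕ) : F) = 0 := by exact_mod_cast h
      rw [CharP.cast_eq_zero_iff F p] at h4
      exact h2 ((Nat.prime_dvd_prime_iff_eq hp Nat.prime_two).1 h4)
    have h := index_odd (F := F) (M := K) h3 (by omega)
    exact ⟨by rw [h], fun h5 => absurd h5 h2⟩

variable (F K) in
/-- the elements of the torus in `Ω` -/
def BT : Subgroup Kˣ := (commutator (O (HQ F K))).comap Tw

omit [Fintype F] [FiniteDimensional F K] in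
theorem mem_BT {w : Kˣ} : w ∈ BT F K ↔ Tw w ∈ commutator (O (HQ F K)) := Iff.rfl

variable (F K) in
/-- the map to the quotient -/
def thT : BT F K →* SQ F K :=
  (QuotientGroup.mk' _).comp ((Tw.comp (BT F K).subtype).codRestrict (commutator (O (HQ F K))) fun w => w.2)

omit [Fintype F] [FiniteDimensional F K] in
theorem thT_apply (w : BT F K) : thT F K w = QuotientGroup.mk (⟨Tw w, w.2⟩ : commutator (O (HQ F K))) := rfl

omit [Fintype F] in
theorem mem_ker_thT (hn : 2 ≤ finrank F K) {w : BT F K} (h : w ∈ (thT F K).ker) : w ^ 2 = 1 := by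
  rw [MonoidHom.mem_ker, thT_apply, QuotientGroup.eq_one_iff, (cq hn).mem] at h
  apply Subtype.ext
  rw [Subgroup.coe_pow, Subgroup.coe_one]
  rcases h with h | h
  · have h1 : (w : Kˣ) = 1 := Tw_injective (F := F) (by rw [map_one]; exact h)
    rw [h1, one_pow]
  · have h1 : (w : Kˣ) = -1 := Tw_injective (F := F) h
    rw [h1, neg_one_sq]

variable (F K) in
/-- the torus -/
def AT : Subgroup (SQ F K) := (thT F K).range

theorem card_units (hK : finrank F K = n) : Nat.card Kˣ = Nat.card F ^ n - 1 := by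
  classical
  have : Finite K := Module.finite_of_finite F
  have := Fintype.ofFinite K
  rw [Nat.card_units, ← hK, Module.natCard_eq_pow_finrank (K := F) (V := K)]

theorem card_AT_dvd (hK : finrank F K = n) : Nat.card (AT F K) ∣ Nat.card F ^ n - 1 := by
  rw [← card_units hK]
  exact (Subgroup.card_range_dvd _).trans (Subgroup.card_subgroup_dvd_card _)

theorem isCyclic_AT : IsCyclic (AT F K) := by
  have : Finite K := Module.finite_of_finite F
  exact isCyclic_of_surjective _ (thT F K).rangeRestrict_surjective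

/-- the torus contains a Sylow subgroup -/
theorem dvd_card_AT (hp : p.Prime) (hF : Fintype.card F = p ^ f) (hK : finrank F K = n) (hn : 3 ≤ n) (hr : r.Prime)
    (hr2 : r ≠ 2) {a : ℕ} (ha : r ^ a ∣ Nat.card F ^ n - 1) : r ^ a ∣ Nat.card (AT F K) := by
  have : Finite K := Module.finite_of_finite F
  have := finite_O (F := F) (K := K)
  have hcop : ∀ j, j ∣ 4 → (r ^ a).Coprime j := by
    intro j hj
    apply Nat.Coprime.coprime_dvd_right hj
    rw [show 4 = 2 ^ 2 by norm_num]
    exact ((Nat.coprime_primes hr Nat.prime_two).2 hr2).pow _ _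
  rw [← card_units hK, ← Subgroup.card_mul_index (BT F K)] at ha
  have h1 : (BT F K).index ∣ 4 := by
    rw [BT, Subgroup.index_comap]
    exact (Subgroup.relIndex_dvd_index_of_normal _ _).trans (index_dvd_four hp hF hK hn).1
  have h2 := (hcop _ h1).dvd_of_dvd_mul_right ha
  have h3 : Nat.card (AT F K) * Nat.card (thT F K).ker = Nat.card (BT F K) := by
    rw [AT, ← Subgroup.index_ker, mul_comm]
    exact Subgroup.card_mul_index _
  rw [← h3] at h2
  refine Nat.Coprime.dvd_of_dvd_mul_right (Nat.Coprime.pow_left a ((Nat.Prime.coprime_iff_not_dvd hr).2 ?_)) h2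
  intro h4
  have := Fact.mk hr
  obtain ⟨w, hw⟩ := exists_prime_orderOf_dvd_card' r h4
  have h5 : (w : BT F K) ^ 2 = 1 := mem_ker_thT (by omega) w.2
  have h6 : w ^ 2 = 1 := Subtype.ext h5
  have h7 := orderOf_dvd_of_pow_eq_one h6
  rw [hw] at h7
  exact hr2 ((Nat.prime_dvd_prime_iff_eq hr Nat.prime_two).1 h7)

/-- the hypotheses -/
structure Hy (F : Type v) [Field F] [Fintype F] (K : Type w) [Field K] [Algebra F K] (p f n r : ℕ) : Prop where
  hp : p.Prime
  hf : 1 ≤ f
  hF : Fintype.card F = p ^ f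
  hn : 5 ≤ n
  hodd : Odd n
  hr : r.Prime
  ho : orderOf (((p ^ f : ℕ)) : ZMod r) = n
  hK : finrank F K = n

section hy

variable (h : Hy F K p f n r)
include h

omit [FiniteDimensional F K] in
theorem Hy.cardF : Nat.card F = p ^ f := by rw [Nat.card_eq_fintype_card, h.hF]

omit [FiniteDimensional F K] in
theorem Hy.ho' : orderOf ((Nat.card F : ℕ) : ZMod r) = n := by rw [h.cardF]; exact h.ho

omit [FiniteDimensional F K] in
theorem Hy.dvd_iff {i : ℕ} : r ∣ (p ^ f) ^ i - 1 ↔ n ∣ i := by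
  have hq : 1 ≤ (p ^ f) ^ i := Nat.one_le_pow _ _ (Nat.pow_pos h.hp.pos)
  rw [← h.ho, orderOf_dvd_iff_pow_eq_one, ← ZMod.natCast_eq_zero_iff, Nat.cast_sub hq, Nat.cast_pow, Nat.cast_one,
    sub_eq_zero]

omit [FiniteDimensional F K] in
theorem Hy.not_dvd_p : ¬ r ∣ p := by
  intro h1
  have h2 : r ∣ (p ^ f) ^ n - 1 := h.dvd_iff.2 dvd_rfl
  exact not_dvd_pow_sub h.hr (q := p ^ f) (Nat.one_le_pow _ _ h.hp.pos) (dvd_pow h1 (by have := h.hf; omega))
    (by have := h.hn; omega) h2

omit [FiniteDimensional F K] in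
theorem Hy.r_ne_two : r ≠ 2 := by
  intro h2
  subst h2
  have h1 : (p ^ f : ℕ) % 2 = 1 := by
    rw [← Nat.odd_iff]
    apply Odd.pow
    exact h.hp.eq_two_or_odd'.resolve_left (fun h3 => h.not_dvd_p (h3 ▸ dvd_rfl))
  have h3 : (2 : ℕ) ∣ (p ^ f) ^ 1 - 1 := by rw [pow_one]; omega
  have h4 := Nat.le_of_dvd one_pos (h.dvd_iff.1 h3)
  have := h.hn
  omega

omit [FiniteDimensional F K] in
theorem Hy.r_odd : Odd r := h.hr.eq_two_or_odd'.resolve_left h.r_ne_two

theorem Hy.card_S : Nat.gcd 4 ((p ^ f) ^ n - 1) * Nat.card (SQ F K) =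
    (p ^ f) ^ (n * (n - 1)) * ((p ^ f) ^ n - 1) * ∏ i ∈ Finset.range (n - 1), ((p ^ f) ^ (2 * (i + 1)) - 1) := by
  have h1 := Cfsg.Agent.S0293.result (F := F) h.hF n (by have := h.hn; omega)
  rwa [Nat.card_congr (modelEquiv (finBasisOfFinrankEq F K h.hK)).toEquiv] at h1

theorem Hy.fact_p : (Nat.card (SQ F K)).factorization p = f * (n * (n - 1)) := by
  have h1 := h.card_S
  have hq : 1 ≤ p ^ f := Nat.one_le_pow _ _ h.hp.pos
  have hpq : p ∣ p ^ f := dvd_pow_self p (by have := h.hf; omega)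
  have hg : ¬ p ∣ Nat.gcd 4 ((p ^ f) ^ n - 1) := fun h2 =>
    not_dvd_pow_sub h.hp hq hpq (by have := h.hn; omega) (h2.trans (Nat.gcd_dvd_right _ _))
  have h2 : (Nat.gcd 4 ((p ^ f) ^ n - 1) * Nat.card (SQ F K)).factorization p = f * (n * (n - 1)) := by
    refine fact_pow_mul h.hp (X := ((p ^ f) ^ n - 1) * ∏ i ∈ Finset.range (n - 1), ((p ^ f) ^ (2 * (i + 1)) - 1)) ?_ ?_
    · rw [h.hp.dvd_mul, Prime.dvd_finsetProd_iff h.hp.prime]
      rintro (h3 | ⟨i, -, h3⟩)
      · exact not_dvd_pow_sub h.hp hq hpq (by have := h.hn; omega) h3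
      · exact not_dvd_pow_sub h.hp hq hpq (by omega) h3
    · rw [h1, ← pow_mul p f (n * (n - 1)), mul_assoc]
  have := finite_O (F := F) (K := K)
  rw [fact_mul_of_coprime (by
    intro h3
    rw [Nat.gcd_eq_zero_iff] at h3
    omega) Nat.card_pos.ne' hg] at h2
  exact h2

/-- the `r`-part of `|S|` divides `q ^ n - 1` -/
theorem Hy.r_part {a : ℕ} (ha : r ^ a ∣ Nat.card (SQ F K)) : r ^ a ∣ (p ^ f) ^ n - 1 := by
  have h1 := h.card_S
  have h2 : r ^ a ∣ (p ^ f) ^ (n * (n - 1)) * ((p ^ f) ^ n - 1) * ∏ i ∈ Finset.range (n - 1), ((p ^ f) ^ (2 * (i + 1)) - 1) :=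
    h1 ▸ (ha.mul_left _)
  have h3 : (r ^ a).Coprime (∏ i ∈ Finset.range (n - 1), ((p ^ f) ^ (2 * (i + 1)) - 1)) := by
    apply Nat.Coprime.pow_left
    rw [Nat.Prime.coprime_iff_not_dvd h.hr, Prime.dvd_finsetProd_iff h.hr.prime]
    rintro ⟨i, hi, h4⟩
    rw [Finset.mem_range] at hi
    have h5 := h.dvd_iff.1 h4
    have h6 : n.Coprime 2 := h.hodd.coprime_two_right
    have h7 := Nat.le_of_dvd (by omega) (h6.dvd_of_dvd_mul_left h5)
    omega
  have h4 := h3.dvd_of_dvd_mul_right h2
  refine Nat.Coprime.dvd_of_dvd_mul_left (Nat.Coprime.pow_left a ((Nat.Prime.coprime_iff_not_dvd h.hr).2 ?_)) h4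
  intro h5
  exact h.not_dvd_p (h.hr.dvd_of_dvd_pow (h.hr.dvd_of_dvd_pow h5))

theorem Hy.full : r ^ (Nat.card (SQ F K)).factorization r ∣ Nat.card (AT F K) := by
  apply dvd_card_AT h.hp h.hF h.hK (by have := h.hn; omega) h.hr h.r_ne_two
  rw [h.cardF]
  exact h.r_part (Nat.ordProj_dvd _ _)

theorem Hy.p_not_dvd : ¬ p ∣ Nat.card (AT F K) := by
  intro h1
  have h2 := h1.trans (card_AT_dvd h.hK)
  rw [h.cardF] at h2
  exact not_dvd_pow_sub h.hp (Nat.one_le_pow _ _ h.hp.pos) (dvd_pow_self p (by have := h.hf; omega))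
    (by have := h.hn; omega) h2

/-- the element of order `r` -/
theorem Hy.exists_zeta : ∃ ζ : Kˣ, orderOf ζ = r := by
  have : Finite K := Module.finite_of_finite F
  have := Fact.mk h.hr
  apply exists_prime_orderOf_dvd_card' r
  rw [card_units h.hK, h.cardF]
  exact h.dvd_iff.2 dvd_rfl

theorem Hy.zeta_mem {ζ : Kˣ} (hζ : orderOf ζ = r) : ζ ∈ BT F K := by
  rw [mem_BT]
  have := finite_O (F := F) (K := K)
  have hi := (index_dvd_four (F := F) (K := K) h.hp h.hF h.hK (by have := h.hn; omega)).1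
  refine mem_of_coprime_pow (a := (commutator (O (HQ F K))).index) (b := r) ?_ (Subgroup.pow_index_mem _ _) ?_
  · apply Nat.Coprime.coprime_dvd_left hi
    rw [show 4 = 2 ^ 2 by norm_num]
    exact ((Nat.coprime_primes Nat.prime_two h.hr).2 h.r_ne_two.symm).pow_left _
  · rw [← map_pow, ← hζ, pow_orderOf_eq_one, map_one]
    exact Subgroup.one_mem _

/-- **the centralizer of an element of order `r`** -/
theorem Hy.cent_zeta {ζ : Kˣ} (hζ : orderOf ζ = r) {x : SQ F K} (hx : Commute x (thT F K ⟨ζ, h.zeta_mem hζ⟩)) :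
    ∃ w : BT F K, thT F K w = x := by
  obtain ⟨x', rfl⟩ := QuotientGroup.mk_surjective x
  have hn2 : 2 ≤ finrank F K := by rw [h.hK]; have := h.hn; omega
  rw [thT_apply] at hx
  have h1 := (cq hn2).comm h.r_odd (by
    apply Subtype.ext
    show Tw ζ ^ r = 1
    rw [← map_pow, ← hζ, pow_orderOf_eq_one, map_one]) hx
  have h2 : (x' : O (HQ F K)) * Tw ζ = Tw ζ * (x' : O (HQ F K)) := congrArg Subtype.val h1.eq
  have h3 : ζ ^ 2 ≠ 1 := by
    intro h4
    have h5 := orderOf_dvd_of_pow_eq_one h4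
    rw [hζ] at h5
    exact h.r_ne_two ((Nat.prime_dvd_prime_iff_eq h.hr Nat.prime_two).1 h5)
  obtain ⟨w, hw⟩ := exists_Tw (h.hK ▸ h.hodd) ((degree_of_order h.hK h.ho' hζ).trans h.hK.symm) h3 h2
  refine ⟨⟨w, ?_⟩, ?_⟩
  · rw [mem_BT, hw]
    exact x'.2
  · rw [thT_apply]
    congr 1
    exact Subtype.ext hw

/-- **classification** -/
theorem Hy.classify {x : SQ F K} (hx : r ∣ Nat.card (Subgroup.centralizer ({x} : Set (SQ F K)))) (hx1 : x ≠ 1) :
    ∃ w : BT F K, (w : Kˣ) ^ 2 ≠ 1 ∧ Nat.card (Subgroup.centralizer ({x} : Set (SQ F K))) =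
      Nat.card (Subgroup.centralizer ({thT F K w} : Set (SQ F K))) ∧ ∃ s, s * x * s⁻¹ = thT F K w := by
  have := finite_O (F := F) (K := K)
  obtain ⟨ζ, hζ⟩ := h.exists_zeta
  have hn2 : 2 ≤ finrank F K := by rw [h.hK]; have := h.hn; omega
  have hz1 : orderOf (thT F K ⟨ζ, h.zeta_mem hζ⟩) = r := by
    have h1 : (thT F K ⟨ζ, h.zeta_mem hζ⟩) ^ r = 1 := by
      rw [← map_pow]
      have : (⟨ζ, h.zeta_mem hζ⟩ : BT F K) ^ r = 1 := Subtype.ext (by
        show ζ ^ r = 1
        rw [← hζ, pow_orderOf_eq_one])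
      rw [this, map_one]
    have := Fact.mk h.hr
    refine orderOf_eq_prime h1 ?_
    intro h2
    have h3 := mem_ker_thT hn2 (MonoidHom.mem_ker.2 h2)
    have h4 : ζ ^ 2 = 1 := congrArg Subtype.val h3
    have h5 := orderOf_dvd_of_pow_eq_one h4
    rw [hζ] at h5
    exact h.r_ne_two ((Nat.prime_dvd_prime_iff_eq h.hr Nat.prime_two).1 h5)
  obtain ⟨s, hs⟩ := exists_conj h.hr (AT F K) isCyclic_AT h.full ⟨_, rfl⟩ hz1 hx
  obtain ⟨w, hw⟩ := h.cent_zeta hζ hs
  refine ⟨w, ?_, ?_, s, hw.symm⟩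
  · intro h1
    apply hx1
    have h2 : thT F K w = 1 := mk_Tw_eq_one hn2 h1 w.2
    rw [h2] at hw
    have h3 : s * x = s := mul_inv_eq_one.1 hw.symm
    exact mul_eq_left.1 h3
  · rw [hw, card_cent_conj]

/-- the centralizer of the element of order `r` is the torus -/
theorem Hy.cent_eq {ζ : Kˣ} (hζ : orderOf ζ = r) :
    Subgroup.centralizer ({thT F K ⟨ζ, h.zeta_mem hζ⟩} : Set (SQ F K)) = AT F K := by
  ext x
  constructor
  · intro hx
    obtain ⟨w, hw⟩ := h.cent_zeta hζ (Subgroup.mem_centralizer_singleton_iff.1 hx)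
    exact ⟨w, hw⟩
  · rintro ⟨w, rfl⟩
    rw [Subgroup.mem_centralizer_singleton_iff, ← map_mul, ← map_mul, mul_comm]

/-- the `p`-part of the centralizer in `O` -/
theorem Hy.fact_O {w : Kˣ} (hw : w ^ 2 ≠ 1) : ∃ m, n = (minpoly F (w : K)).natDegree * m ∧
    (Nat.card (Subgroup.centralizer ({Tw w} : Set (O (HQ F K))))).factorization p = f * n * ((m - 1) / 2) := by
  obtain ⟨m, h1, h2⟩ := card_gl (F := F) (w : K)
  rw [h.hK] at h1
  refine ⟨m, h1, ?_⟩
  rw [card_comm (h.hK ▸ h.hodd) hw, h2, h.hF, fact_glCard h.hp h.hf (minpoly.natDegree_pos (Algebra.IsIntegral.isIntegral _)),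
    val_eq h1 h.hodd]

/-- the centralizer only depends on the degree -/
theorem Hy.cent_O_eq {w w' : Kˣ} (hw : w ^ 2 ≠ 1) (hw' : w' ^ 2 ≠ 1)
    (hd : (minpoly F (w : K)).natDegree = (minpoly F (w' : K)).natDegree) :
    Subgroup.centralizer ({Tw w} : Set (O (HQ F K))) = Subgroup.centralizer ({Tw w'} : Set (O (HQ F K))) := by
  have hodd : Odd (finrank F K) := h.hK ▸ h.hodd
  ext g
  rw [Subgroup.mem_centralizer_singleton_iff, Subgroup.mem_centralizer_singleton_iff, mem_comm_iff hodd hw,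
    mem_comm_iff hodd hw']
  refine exists_congr fun A => and_congr_right fun _ => ?_
  exact card_comm_eq hd (A : K →ₗ[F] K)

omit [FiniteDimensional F K] in
theorem Hy.two_ne (hp2 : p ≠ 2) : (2 : F) ≠ 0 := by
  have := Fact.mk h.hp
  have hch : CharP F p := charP_of_card_eq_prime_pow h.hF
  intro h1
  have h4 : ((2 : ℕ) : F) = 0 := by exact_mod_cast h1
  rw [CharP.cast_eq_zero_iff F p] at h4
  exact hp2 ((Nat.prime_dvd_prime_iff_eq h.hp Nat.prime_two).1 h4)

omit [FiniteDimensional F K] in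
theorem Hy.two_eq (hp2 : p = 2) : (2 : F) = 0 := by
  have := Fact.mk h.hp
  have hch : CharP F p := charP_of_card_eq_prime_pow h.hF
  subst hp2
  exact CharTwo.two_eq_zero

/-- no signs -/
theorem Hy.card_ns {w : BT F K} (hw : p = 2 ∨ (minpoly F ((w : Kˣ) : K)).natDegree ≠ 1) :
    Nat.card (Subgroup.centralizer ({thT F K w} : Set (SQ F K))) * Nat.card (Subgroup.center (commutator (O (HQ F K)))) =
      Nat.card (Subgroup.centralizer ({Tw (w : Kˣ)} : Set (O (HQ F K))) ⊓ commutator (O (HQ F K)) :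
        Subgroup (O (HQ F K))) := by
  have := finite_O (F := F) (K := K)
  have hn2 : 2 ≤ finrank F K := by rw [h.hK]; have := h.hn; omega
  obtain ⟨j, h1, h2, h3⟩ := (cq (F := F) (K := K) hn2).card_cent ⟨Tw (w : Kˣ), w.2⟩
  have hj : j = 1 := by
    rcases hw with hw | hw
    · have h4 : Nat.card (Subgroup.center (commutator (O (HQ F K)))) = 1 := by
        apply (cq (F := F) (K := K) hn2).card_center_one
        have h5 : (-1 : Kˣ) = 1 := by
          apply Units.ext
          have h6 : (2 : K) = 0 := by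
            have := congrArg (algebraMap F K) (h.two_eq hw)
            rwa [map_ofNat, map_zero] at this
          rw [Units.val_neg, Units.val_one]
          linear_combination -h6
        rw [h5, map_one]
      rw [h4] at h1
      exact Nat.dvd_one.1 h1
    · by_cases hp2 : p = 2
      · have h4 : Nat.card (Subgroup.center (commutator (O (HQ F K)))) = 1 := by
          apply (cq (F := F) (K := K) hn2).card_center_one
          have h5 : (-1 : Kˣ) = 1 := by
            apply Units.ext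
            have h6 : (2 : K) = 0 := by
              have := congrArg (algebraMap F K) (h.two_eq hp2)
              rwa [map_ofNat, map_zero] at this
            rw [Units.val_neg, Units.val_one]
            linear_combination -h6
          rw [h5, map_one]
        rw [h4] at h1
        exact Nat.dvd_one.1 h1
      · apply h3
        intro g hg
        apply no_neg (h.two_ne hp2) (h.hK ▸ h.hodd) hw (g : O (HQ F K))
        rw [← neg_one_mul, map_mul]
        exact mul_inv_eq_iff_eq_mul.1 hg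
  rw [hj, one_mul] at h2
  exact h2

theorem Hy.fact_S {w : BT F K} :
    (Nat.card (Subgroup.centralizer ({thT F K w} : Set (SQ F K)))).factorization p ≤
      (Nat.card (Subgroup.centralizer ({Tw (w : Kˣ)} : Set (O (HQ F K))))).factorization p ∧
    (Nat.card (Subgroup.centralizer ({Tw (w : Kˣ)} : Set (O (HQ F K))))).factorization p ≤
      (Nat.card (Subgroup.centralizer ({thT F K w} : Set (SQ F K)))).factorization p + 1 ∧
    (p ≠ 2 → (Nat.card (Subgroup.centralizer ({thT F K w} : Set (SQ F K)))).factorization p =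
      (Nat.card (Subgroup.centralizer ({Tw (w : Kˣ)} : Set (O (HQ F K))))).factorization p) := by
  have := finite_O (F := F) (K := K)
  have hn2 : 2 ≤ finrank F K := by rw [h.hK]; have := h.hn; omega
  have hi := index_dvd_four (F := F) (K := K) h.hp h.hF h.hK (by have := h.hn; omega)
  have hodd := fun hp2 : p ≠ 2 => (cq (F := F) (K := K) hn2).fact_odd h.hp hp2 hi.1 ⟨Tw (w : Kˣ), w.2⟩
  by_cases hp2 : p = 2
  · obtain ⟨i, h1, h2⟩ := card_inf_mul (N := commutator (O (HQ F K)))
      (Subgroup.centralizer ({Tw (w : Kˣ)} : Set (O (HQ F K))))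
    rw [hi.2 hp2] at h1
    have h3 := h.card_ns (w := w) (Or.inl hp2)
    have h4 : Nat.card (Subgroup.center (commutator (O (HQ F K)))) = 1 := by
      apply (cq (F := F) (K := K) hn2).card_center_one
      have h5 : (-1 : Kˣ) = 1 := by
        apply Units.ext
        have h6 : (2 : K) = 0 := by
          have := congrArg (algebraMap F K) (h.two_eq hp2)
          rwa [map_ofNat, map_zero] at this
        rw [Units.val_neg, Units.val_one]
        linear_combination -h6
      rw [h5, map_one]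
    rw [h4, mul_one] at h3
    rw [← h3] at h2
    have h5 : i ≠ 0 := by rintro rfl; exact absurd h1 (by norm_num)
    rw [h2, Nat.factorization_mul h5 Nat.card_pos.ne', Finsupp.add_apply]
    have h6 : i.factorization p ≤ 1 := by
      have h7 := (Nat.factorization_le_iff_dvd h5 two_ne_zero).2 h1 p
      refine h7.trans ?_
      rw [Nat.prime_two.factorization, Finsupp.single_apply]
      split_ifs <;> omega
    refine ⟨by omega, by omega, fun h8 => absurd hp2 h8⟩
  · have h1 := hodd hp2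
    refine ⟨h1.le, ?_, fun _ => h1⟩
    have h2 : (Nat.card (Subgroup.centralizer ({Tw (w : Kˣ)} : Set (O (HQ F K))))).factorization p =
      (Nat.card (Subgroup.centralizer ({thT F K w} : Set (SQ F K)))).factorization p := h1.symm
    omega

set_option maxHeartbeats 1000000 in
/-- **The centralizer orders of `Ω / Z(Ω)`.** -/
theorem Hy.lat : LatW (SQ F K) p r := by
  have := finite_O (F := F) (K := K)
  have hn5 := h.hn
  obtain ⟨ζ, hζ⟩ := h.exists_zeta
  have hpS : p ∣ Nat.card (SQ F K) := by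
    rw [h.hp.dvd_iff_one_le_factorization Nat.card_pos.ne', h.fact_p]
    have h1 : 0 < f * (n * (n - 1)) := Nat.mul_pos h.hf (Nat.mul_pos (by omega) (by omega))
    omega
  have h0 : ∃ c ∈ Co (SQ F K), ¬ r ∣ c := by
    have := Fact.mk h.hp
    obtain ⟨u, hu⟩ := exists_prime_orderOf_dvd_card' p hpS
    refine ⟨_, mem_co u, fun h1 => ?_⟩
    obtain ⟨w, -, -, s, hs⟩ := h.classify h1 (by
      rintro rfl
      rw [orderOf_one] at hu
      exact h.hp.one_lt.ne hu)
    apply h.p_not_dvd
    have h2 : orderOf (s * u * s⁻¹) = p := by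
      rw [← hu]
      exact orderOf_injective (MulAut.conj s).toMonoidHom (MulAut.conj s).injective _
    have h3 : s * u * s⁻¹ ∈ AT F K := by rw [hs]; exact ⟨w, rfl⟩
    rw [← h2, ← Subgroup.orderOf_mk _ h3]
    exact orderOf_dvd_natCard _
  have key : ∀ c ∈ Co (SQ F K), c ≠ Nat.card (SQ F K) → r ∣ c → ∃ w : BT F K, (w : Kˣ) ^ 2 ≠ 1 ∧
      c = Nat.card (Subgroup.centralizer ({thT F K w} : Set (SQ F K))) := by
    rintro _ ⟨x, rfl⟩ hc hrc
    obtain ⟨w, h1, h2, -⟩ := h.classify hrc (by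
      rintro rfl
      apply hc
      have h3 : Subgroup.centralizer ({1} : Set (SQ F K)) = ⊤ :=
        (Subgroup.eq_top_iff' _).2 fun g => Subgroup.mem_centralizer_singleton_iff.2 (by rw [mul_one, one_mul])
      show Nat.card (Subgroup.centralizer ({1} : Set (SQ F K))) = _
      rw [h3, Subgroup.card_top])
    exact ⟨w, h1, h2⟩
  refine ⟨h0, ⟨_, mem_co (thT F K ⟨ζ, h.zeta_mem hζ⟩), ?_, ?_⟩, ?_, ?_⟩
  · rw [h.cent_eq hζ]
    exact h.full
  · rw [h.cent_eq hζ]
    exact h.p_not_dvd
  · intro c hc h1 h2 h3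
    obtain ⟨w, hw, rfl⟩ := key c hc h1 h2
    obtain ⟨m, hm, hv⟩ := h.fact_O hw
    have h4 := h.fact_S (w := w)
    have h5 := (h.hp.pow_dvd_iff_le_factorization Nat.card_pos.ne').1 h3
    rw [h.fact_p] at h5
    have hmn : m ≤ n := Nat.le_of_dvd (by omega) (Dvd.intro_left _ hm.symm)
    have h6 : f * n * ((m - 1) / 2) < f * (n * (n - 1)) := by
      rw [mul_assoc]
      exact Nat.mul_lt_mul_of_pos_left (Nat.mul_lt_mul_of_pos_left (by omega) (by omega)) h.hf
    omega
  · intro c hc h1 h2 _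
    obtain ⟨w, hw, rfl⟩ := key c hc h1 h2
    obtain ⟨m, hm, hv⟩ := h.fact_O hw
    have h4 := h.fact_S (w := w)
    by_cases hcase : p = 2 ∨ (minpoly F ((w : Kˣ) : K)).natDegree ≠ 1
    · right
      intro c' hc' hr' hdvd hfac
      have hne : c' ≠ Nat.card (SQ F K) := by
        rintro rfl
        exact h1 (Nat.dvd_antisymm (Subgroup.card_subgroup_dvd_card _) hdvd)
      obtain ⟨w', hw', rfl⟩ := key c' hc' hne hr'
      obtain ⟨m', hm', hv'⟩ := h.fact_O hw'
      have h4' := h.fact_S (w := w')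
      have hmo : Odd m := (Nat.odd_mul.1 (hm ▸ h.hodd)).2
      have hmo' : Odd m' := (Nat.odd_mul.1 (hm' ▸ h.hodd)).2
      have hfn : 5 ≤ f * n := le_trans hn5 (Nat.le_mul_of_pos_left n h.hf)
      have hmm : m = m' := by
        obtain ⟨j, rfl⟩ := hmo
        obtain ⟨j', rfl⟩ := hmo'
        have e1 : (2 * j + 1 - 1) / 2 = j := by omega
        have e2 : (2 * j' + 1 - 1) / 2 = j' := by omega
        rw [e1] at hv
        rw [e2] at hv'
        rcases lt_trichotomy j j' with h5 | h5 | h5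
        · have : f * n * j + f * n ≤ f * n * j' := by
            rw [← Nat.mul_succ]
            exact Nat.mul_le_mul_left _ h5
          omega
        · rw [h5]
        · have : f * n * j' + f * n ≤ f * n * j := by
            rw [← Nat.mul_succ]
            exact Nat.mul_le_mul_left _ h5
          omega
      have hm0 : 0 < m := by
        rcases Nat.eq_zero_or_pos m with h5 | h5
        · rw [h5, mul_zero] at hm
          omega
        · exact h5
      have hdeg : (minpoly F ((w : Kˣ) : K)).natDegree = (minpoly F ((w' : Kˣ) : K)).natDegree := by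
        rw [← hmm, hm] at hm'
        exact Nat.eq_of_mul_eq_mul_right hm0 hm'
      have h5 := h.card_ns (w := w) hcase
      have h6 := h.card_ns (w := w') (by rw [← hdeg]; exact hcase)
      rw [← h.cent_O_eq hw hw' hdeg, ← h5] at h6
      exact Nat.eq_of_mul_eq_mul_right Nat.card_pos h6
    · left
      have hc1 : p ≠ 2 := fun h5 => hcase (Or.inl h5)
      have hc2 : (minpoly F ((w : Kˣ) : K)).natDegree = 1 := by
        by_contra h5
        exact hcase (Or.inr h5)
      intro c' hc' hne' hr'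
      obtain ⟨w', hw', hcc⟩ := key c' hc' hne' hr'
      obtain ⟨m', hm', hv'⟩ := h.fact_O hw'
      have e1 := h4.2.2 hc1
      have e2 := (h.fact_S (w := w')).2.2 hc1
      have hmn : m' ≤ n := Nat.le_of_dvd (by omega) (Dvd.intro_left _ hm'.symm)
      rw [hc2, one_mul] at hm
      have h7 : f * n * ((m' - 1) / 2) ≤ f * n * ((m - 1) / 2) :=
        Nat.mul_le_mul_left _ (Nat.div_le_div_right (by omega))
      rw [hcc]
      exact (e2.trans hv').le.trans (h7.trans (e1.trans hv).ge)

end hy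

end final

/-- transport -/
theorem latW_congr {S : Type u} [Group S] {T : Type v} [Group T] (e : S ≃* T) {p r : ℕ} (h : LatW T p r) :
    LatW S p r := by
  have h1 := co_congr e
  have h2 := Nat.card_congr e.toEquiv
  obtain ⟨a, b, c, d⟩ := h
  rw [← h1] at a b c d
  rw [← h2] at b c d
  exact ⟨a, b, c, d⟩

/-- **L-D-top, `n` odd.** -/
theorem lat_plus_odd {F : Type v} [Field F] [Fintype F] {p f n r : ℕ} (hp : p.Prime) (hf : 1 ≤ f)
    (hF : Fintype.card F = p ^ f) (hn : 5 ≤ n) (hodd : Odd n) (hr : r.Prime)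
    (ho : orderOf (((p ^ f : ℕ)) : ZMod r) = n) : LatW (Cfsg.POmega F (Cfsg.quadFormPlus n F)) p r := by
  have := Fact.mk hp
  have hch : CharP F p := charP_of_card_eq_prime_pow hF
  have : NeZero n := ⟨by omega⟩
  have hK := FiniteField.finrank_extension F p n
  have h : Hy F (FiniteField.Extension F p n) p f n r := ⟨hp, hf, hF, hn, hodd, hr, ho, hK⟩
  exact latW_congr (modelEquiv (finBasisOfFinrankEq F _ hK)) h.lat

end Cfsg.Agent.H237.PL
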