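import Mathlib
import Cfsg.Agent.H237.PL.Gen
import Cfsg.Agent.H237.PL.Odd

/-!
# S3677, `lat_plus_even`: isometries of `(K* × K) ⊥ (F* × F)` commuting with `(w, β)` (helper237)
-/

set_option autoImplicit false
set_option linter.unusedSectionVars false

universe u v w

namespace Cfsg.Agent.H237.PL

open QuadraticMap Module Polynomial
open Cfsg.Agent.LieClassical.OrthCore Cfsg.Agent.LieClassical.OrthForms
open Cfsg.Agent.H160.QSpin Cfsg.Agent.H955
open Cfsg.Agent.H286.CS (ev Mult KK)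

/-! ### direct sums -/

section blk

variable {F : Type v} [Field F] {V : Type*} [AddCommGroup V] [Module F V] {W : Type*} [AddCommGroup W] [Module F W]
  [FiniteDimensional F V] [FiniteDimensional F W] {Q₁ : QuadraticForm F V} {Q₂ : QuadraticForm F W}

theorem exists_pr {g : (V × W) ≃ₗ[F] (V × W)} (hg : g ∈ O (Q₁.prod Q₂)) (h1 : ∀ a, (g (a, 0)).2 = 0)
    (h2 : ∀ b, (g (0, b)).1 = 0) : ∃ g₁ ∈ O Q₁, ∃ g₂ ∈ O Q₂, g = pr g₁ g₂ := by
  let a₁ : V →ₗ[F] V := (LinearMap.fst F V W).comp ((g : _ →ₗ[F] _).comp (LinearMap.inl F V W))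
  let a₂ : W →ₗ[F] W := (LinearMap.snd F V W).comp ((g : _ →ₗ[F] _).comp (LinearMap.inr F V W))
  have e1 : ∀ a, g (a, 0) = (a₁ a, 0) := fun a => Prod.ext rfl (h1 a)
  have e2 : ∀ b, g (0, b) = (0, a₂ b) := fun b => Prod.ext (h2 b) rfl
  have i1 : Function.Injective a₁ := by
    rw [injective_iff_map_eq_zero]
    intro a ha
    have h3 := e1 a
    rw [ha] at h3
    exact congrArg Prod.fst (g.map_eq_zero_iff.1 h3)
  have i2 : Function.Injective a₂ := by
    rw [injective_iff_map_eq_zero]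
    intro b hb
    have h3 := e2 b
    rw [hb] at h3
    exact congrArg Prod.snd (g.map_eq_zero_iff.1 h3)
  let g₁ : V ≃ₗ[F] V := LinearEquiv.ofInjectiveEndo a₁ i1
  let g₂ : W ≃ₗ[F] W := LinearEquiv.ofInjectiveEndo a₂ i2
  have h3 : g = pr g₁ g₂ := by
    apply LinearEquiv.ext
    rintro ⟨a, b⟩
    have h4 : ((a, b) : V × W) = (a, 0) + (0, b) := by simp
    rw [h4, map_add, e1, e2, pr_apply]
    show (a₁ a, (0 : W)) + ((0 : V), a₂ b) = (a₁ ((a, (0 : W)) + ((0 : V), b)).1, a₂ ((a, (0 : W)) + ((0 : V), b)).2)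
    simp
  rw [h3] at hg
  exact ⟨g₁, (pr_mem_O_iff.1 hg).1, g₂, (pr_mem_O_iff.1 hg).2, h3⟩

/-- block form from polynomials -/
theorem blk_poly {g : (V × W) ≃ₗ[F] (V × W)} (hg : g ∈ O (Q₁.prod Q₂)) {X₁ : V ≃ₗ[F] V} {X₂ : W ≃ₗ[F] W}
    (hc : ∀ v, g (pr X₁ X₂ v) = pr X₁ X₂ (g v)) {P₁ P₂ : F[X]} (h11 : ∀ v, aeval (X₁ : V →ₗ[F] V) P₁ v = 0)
    (h12 : ∀ v, aeval (X₂ : W →ₗ[F] W) P₁ v = 0 → v = 0) (h22 : ∀ v, aeval (X₂ : W →ₗ[F] W) P₂ v = 0)
    (h21 : ∀ v, aeval (X₁ : V →ₗ[F] V) P₂ v = 0 → v = 0) :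
    ∃ g₁ ∈ O Q₁, ∃ g₂ ∈ O Q₂, g = pr g₁ g₂ ∧ (∀ v, g₁ (X₁ v) = X₁ (g₁ v)) ∧ ∀ v, g₂ (X₂ v) = X₂ (g₂ v) := by
  have k1 : ∀ a, (g (a, 0)).2 = 0 := by
    intro a
    let f : V →ₗ[F] W := (LinearMap.snd F V W).comp ((g : _ →ₗ[F] _).comp (LinearMap.inl F V W))
    have hf : ∀ a, f ((X₁ : V →ₗ[F] V) a) = (X₂ : W →ₗ[F] W) (f a) := by
      intro a
      have h3 := congrArg Prod.snd (hc (a, 0))
      rw [pr_apply, map_zero] at h3
      exact h3
    have h3 := inter hf P₁ a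
    rw [h11, map_zero] at h3
    exact h12 _ h3.symm
  have k2 : ∀ b, (g (0, b)).1 = 0 := by
    intro b
    let f : W →ₗ[F] V := (LinearMap.fst F V W).comp ((g : _ →ₗ[F] _).comp (LinearMap.inr F V W))
    have hf : ∀ a, f ((X₂ : W →ₗ[F] W) a) = (X₁ : V →ₗ[F] V) (f a) := by
      intro a
      have h3 := congrArg Prod.fst (hc (0, a))
      rw [pr_apply, map_zero] at h3
      exact h3
    have h3 := inter hf P₂ b
    rw [h22, map_zero] at h3
    exact h21 _ h3.symm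
  obtain ⟨g₁, hg₁, g₂, hg₂, rfl⟩ := exists_pr hg k1 k2
  refine ⟨g₁, hg₁, g₂, hg₂, rfl, fun v => ?_, fun v => ?_⟩
  · exact congrArg Prod.fst (hc (v, 0))
  · exact congrArg Prod.snd (hc (0, v))

end blk

/-- the even isometries commuting with `X` -/
def KK0 {F : Type v} [Field F] {V : Type w} [AddCommGroup V] [Module F V] (Q : QuadraticForm F V) (X : V ≃ₗ[F] V) :
    Set (V ≃ₗ[F] V) := {g | g ∈ O Q ∧ ev g ∧ ∀ v, g (X v) = X (g v)}

theorem KK_eq_KK0 {F : Type v} [Field F] {V : Type w} [AddCommGroup V] [Module F V] {Q : QuadraticForm F V}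
    {X : V ≃ₗ[F] V} {e : ℕ} (he : Odd e) (hX : X ^ e = 1) : KK Q X = KK0 Q X := by
  ext g
  constructor
  · rintro ⟨h1, h2, h3 | h3⟩
    · exact ⟨h1, h2, h3⟩
    · refine ⟨h1, h2, ?_⟩
      by_cases h : (2 : F) = 0
      · intro v
        rw [h3, neg_eq_iff_add_eq_zero, ← two_smul F, h, zero_smul]
      · have h4 : ∀ k v, g ((X ^ k) v) = (-1 : F) ^ k • (X ^ k) (g v) := by
          intro k
          induction k with
          | zero => intro v; simp
          | succ k ih =>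
            intro v
            rw [pow_succ, pow_succ]
            show g ((X ^ k) (X v)) = ((-1 : F) ^ k * -1) • (X ^ k) (X (g v))
            rw [ih, h3, map_neg, mul_neg_one, neg_smul, smul_neg]
        have h5 : ∀ v, g v = 0 := by
          intro v
          have h6 := h4 e v
          rw [hX, he.neg_one_pow, neg_one_smul] at h6
          have h7 : (2 : F) • g v = 0 := by
            rw [two_smul]
            exact add_eq_zero_iff_eq_neg.2 h6
          exact (smul_eq_zero.1 h7).resolve_left h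
        intro v
        rw [h5, h5, map_zero]
  · rintro ⟨h1, h2, h3⟩
    exact ⟨h1, h2, Or.inl h3⟩

/-! ### the torus -/

section tor

variable {F : Type v} [Field F] {K : Type w} [Field K] [Algebra F K]

/-- `Tw w` as a linear equivalence -/
abbrev Tl (w : Kˣ) : (Dual F K × K) ≃ₗ[F] (Dual F K × K) := ((Tw w : O (HQ F K)) : (Dual F K × K) ≃ₗ[F] (Dual F K × K))

theorem aeval_Tl (w : Kˣ) (P : F[X]) (v : Dual F K × K) :
    aeval ((Tl w : (Dual F K × K) ≃ₗ[F] (Dual F K × K)) : (Dual F K × K) →ₗ[F] (Dual F K × K)) P v =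
      (rho (aeval ((w⁻¹ : Kˣ) : K) P) v.1, aeval (w : K) P * v.2) := by
  apply Prod.ext
  · have h1 := inter (f := LinearMap.fst F (Dual F K) K)
      (T := ((Tl w : (Dual F K × K) ≃ₗ[F] (Dual F K × K)) : (Dual F K × K) →ₗ[F] (Dual F K × K)))
      (T' := rho ((w⁻¹ : Kˣ) : K)) (fun v => rfl) P v
    rw [aeval_rho] at h1
    exact h1
  · have h1 := inter (f := LinearMap.snd F (Dual F K) K)
      (T := ((Tl w : (Dual F K × K) ≃ₗ[F] (Dual F K × K)) : (Dual F K × K) →ₗ[F] (Dual F K × K)))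
      (T' := Algebra.lmul F K (w : K)) (fun v => rfl) P v
    rw [aeval_lmul] at h1
    exact h1

theorem aeval_Tl_zero {w : Kˣ} {P : F[X]} (h1 : aeval (w : K) P = 0) (h2 : aeval ((w⁻¹ : Kˣ) : K) P = 0)
    (v : Dual F K × K) :
    aeval ((Tl w : (Dual F K × K) ≃ₗ[F] (Dual F K × K)) : (Dual F K × K) →ₗ[F] (Dual F K × K)) P v = 0 := by
  rw [aeval_Tl, h1, h2, map_zero, zero_mul]
  rfl

theorem aeval_Tl_inj {w : Kˣ} {P : F[X]} (h1 : aeval (w : K) P ≠ 0) (h2 : aeval ((w⁻¹ : Kˣ) : K) P ≠ 0)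
    {v : Dual F K × K}
    (h : aeval ((Tl w : (Dual F K × K) ≃ₗ[F] (Dual F K × K)) : (Dual F K × K) →ₗ[F] (Dual F K × K)) P v = 0) : v = 0 := by
  rw [aeval_Tl] at h
  apply Prod.ext
  · exact rho_inj h2 (congrArg Prod.fst h)
  · exact (mul_eq_zero.1 (congrArg Prod.snd h)).resolve_left h1

variable [Finite F] [FiniteDimensional F K]

theorem aeval_minpoly_ne {w : K} {b : F} (h : w ≠ algebraMap F K b) : aeval b (minpoly F w) ≠ 0 := by
  intro h1
  have : Finite K := Module.finite_of_finite F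
  have h2 : aeval (algebraMap F K b) (minpoly F w) = 0 := by
    rw [aeval_algebraMap_apply, h1, map_zero]
  obtain ⟨σ, hσ⟩ := minpoly.exists_algEquiv_of_root' (Algebra.IsAlgebraic.isAlgebraic w) h2
  apply h
  apply σ.injective
  rw [hσ, σ.commutes]

variable (F K) in
/-- the form -/
abbrev Qm : QuadraticForm F ((Dual F K × K) × (Dual F F × F)) := (HQ F K).prod (HQ F F)

/-- **block form** -/
theorem block2 {w : Kˣ} {β : Fˣ} (h1 : (w : K) ≠ algebraMap F K β) (h2 : (w : K) ≠ algebraMap F K ((β⁻¹ : Fˣ) : F))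
    {g : ((Dual F K × K) × (Dual F F × F)) ≃ₗ[F] ((Dual F K × K) × (Dual F F × F))} (hg : g ∈ O (Qm F K))
    (hc : ∀ v, g (pr (Tl w) (Tl β) v) = pr (Tl w) (Tl β) (g v)) :
    ∃ g₁ ∈ O (HQ F K), ∃ g₂ ∈ O (HQ F F), g = pr g₁ g₂ ∧ (∀ v, g₁ (Tl w v) = Tl w (g₁ v)) ∧
      ∀ v, g₂ (Tl β v) = Tl β (g₂ v) := by
  have e1 : ((w⁻¹ : Kˣ) : K) ≠ algebraMap F K β := by
    intro h3
    apply h2
    rw [Units.val_inv_eq_inv_val, map_inv₀, ← h3, Units.val_inv_eq_inv_val, inv_inv]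
  have e2 : ((w⁻¹ : Kˣ) : K) ≠ algebraMap F K ((β⁻¹ : Fˣ) : F) := by
    intro h3
    apply h1
    rw [Units.val_inv_eq_inv_val, Units.val_inv_eq_inv_val, map_inv₀] at h3
    exact inv_injective h3
  refine blk_poly (Q₁ := HQ F K) (Q₂ := HQ F F) (P₁ := minpoly F (w : K) * minpoly F ((w⁻¹ : Kˣ) : K))
    (P₂ := (X - C (β : F)) * (X - C ((β⁻¹ : Fˣ) : F))) hg hc ?_ ?_ ?_ ?_
  · apply aeval_Tl_zero
    · rw [map_mul, minpoly.aeval, zero_mul]
    · rw [map_mul, minpoly.aeval, mul_zero]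
  · intro v
    apply aeval_Tl_inj
    · rw [map_mul]
      exact mul_ne_zero (aeval_minpoly_ne h1) (aeval_minpoly_ne e1)
    · rw [map_mul]
      exact mul_ne_zero (aeval_minpoly_ne h2) (aeval_minpoly_ne e2)
  · apply aeval_Tl_zero
    · simp
    · simp
  · intro v
    apply aeval_Tl_inj
    · simp only [map_mul, map_sub, aeval_X, aeval_C]
      exact mul_ne_zero (sub_ne_zero.2 h1) (sub_ne_zero.2 h2)
    · simp only [map_mul, map_sub, aeval_X, aeval_C]
      exact mul_ne_zero (sub_ne_zero.2 e1) (sub_ne_zero.2 e2)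

omit [Finite F] [FiniteDimensional F K] in
/-- every `A ∈ GL(F)` is a scalar -/
theorem DO_one (A : F ≃ₗ[F] F) : ∃ γ : Fˣ, Tw γ = (DO A : O (HQ F F)) := by
  have h3 : A 1 ≠ 0 := fun h => one_ne_zero (A.map_eq_zero_iff.1 h)
  refine ⟨Units.mk0 (A 1) h3, ?_⟩
  show DO (mu _) = DO A
  congr 1
  apply LinearEquiv.ext
  intro x
  rw [mu_apply, Units.val_mk0]
  have h4 := A.map_smul x 1
  rw [smul_eq_mul, mul_one, smul_eq_mul] at h4
  rw [h4, mul_comm]

omit [Finite F] [FiniteDimensional F K] in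
/-- even isometries of the hyperbolic plane -/
theorem plane_ev {g : (Dual F F × F) ≃ₗ[F] (Dual F F × F)} (hg : g ∈ O (HQ F F)) (hev : ev g) : ∃ γ : Fˣ, g = Tl γ := by
  have hd : ∀ (φ : Dual F F) (m : F), φ m = m * φ 1 := by
    intro φ m
    have := φ.map_smul m 1
    rwa [smul_eq_mul, mul_one, smul_eq_mul] at this
  have hd0 : ∀ (φ : Dual F F), φ 1 = 0 → φ = 0 := by
    intro φ h
    ext
    exact h
  have hsing : ∀ x : Dual F F × F, HQ F F x = 0 → x.1 = 0 ∨ x.2 = 0 := by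
    intro x h
    rw [HQ_apply, hd] at h
    rcases mul_eq_zero.1 h with h1 | h1
    · exact Or.inr h1
    · exact Or.inl (hd0 _ h1)
  have e1 : ∀ m : F, g ((0 : Dual F F), m) = m • g (0, 1) := by
    intro m
    rw [← map_smul]
    congr 1
    simp
  have hs1 : HQ F F (g (0, 1)) = 0 := by
    rw [mem_O.1 hg]
    show (0 : Dual F F) 1 = 0
    rfl
  have hs2 : ∀ ψ, HQ F F (g (ψ, 0)) = 0 := by
    intro ψ
    rw [mem_O.1 hg]
    show ψ 0 = 0
    exact map_zero ψ
  rcases hsing _ hs1 with h1 | h1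
  · -- the lines are preserved
    have k1 : ∀ m : F, (g (0, m)).1 = 0 := by
      intro m
      rw [e1 m, Prod.smul_fst, h1, smul_zero]
    have hc : (g (0, 1)).2 ≠ 0 := by
      intro h2
      have h3 : g (0, 1) = 0 := Prod.ext h1 h2
      have h4 := congrArg Prod.snd (g.map_eq_zero_iff.1 h3)
      exact one_ne_zero h4
    have k2 : ∀ ψ : Dual F F, (g (ψ, 0)).2 = 0 := by
      intro ψ
      rcases hsing _ (hs2 ψ) with h2 | h2
      · by_contra h3
        have h4 : g (ψ, 0) = g (0, (g (ψ, 0)).2 * ((g (0, 1)).2)⁻¹) := by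
          rw [e1]
          apply Prod.ext
          · rw [Prod.smul_fst, h1, h2, smul_zero]
          · rw [Prod.smul_snd, smul_eq_mul, mul_assoc, inv_mul_cancel₀ hc, mul_one]
        have h5 := congrArg Prod.snd (g.injective h4)
        have h6 : (0 : F) = (g (ψ, 0)).2 * ((g (0, 1)).2)⁻¹ := h5
        exact mul_ne_zero h3 (inv_ne_zero hc) h6.symm
      · exact h2
    obtain ⟨A, hA⟩ := exists_DO (⟨g, hg⟩ : O (HQ F F)) k1 k2
    obtain ⟨γ, hγ⟩ := DO_one A
    refine ⟨γ, ?_⟩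
    show g = ((Tw γ : O (HQ F F)) : (Dual F F × F) ≃ₗ[F] (Dual F F × F))
    rw [hγ, hA]
  · -- the lines are swapped
    exfalso
    set φ := (g (0, 1)).1 with hφ
    have hφ1 : φ 1 ≠ 0 := by
      intro h2
      have h3 : g (0, 1) = 0 := Prod.ext (hd0 _ h2) h1
      have h4 := congrArg Prod.snd (g.map_eq_zero_iff.1 h3)
      exact one_ne_zero h4
    have hg01 : g (0, 1) = (φ, 0) := Prod.ext rfl h1
    have hpol : ∀ ψ : Dual F F, φ ((g (ψ, 0)).2) = ψ 1 := by
      intro ψ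
      have h3 := polar_map hg (ψ, 0) (0, 1)
      rw [polar_HQ, polar_HQ, hg01] at h3
      simpa using h3
    have hgψ : ∀ ψ : Dual F F, g (ψ, 0) = (0, ψ 1 * (φ 1)⁻¹) := by
      intro ψ
      have h4 : (g (ψ, 0)).2 = ψ 1 * (φ 1)⁻¹ := by
        rw [← hpol ψ, hd, mul_assoc, mul_inv_cancel₀ hφ1, mul_one]
      rcases hsing _ (hs2 ψ) with h3 | h3
      · exact Prod.ext h3 h4
      · have h5 : ψ 1 = 0 := by rw [← hpol ψ, h3, map_zero]
        have h6 : ψ = 0 := hd0 _ h5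
        rw [h6]
        have : (((0 : Dual F F), (0 : F)) : Dual F F × F) = 0 := rfl
        rw [this, map_zero, LinearMap.zero_apply, zero_mul]
        rfl
    have hfix : fixS g = Submodule.span F {((φ, 1) : Dual F F × F)} := by
      ext x
      rw [mem_fixS, Submodule.mem_span_singleton]
      obtain ⟨ψ, m⟩ := x
      have h3 : g (ψ, m) = (m • φ, ψ 1 * (φ 1)⁻¹) := by
        have h4 : ((ψ, m) : Dual F F × F) = (ψ, 0) + (0, m) := by simp
        rw [h4, map_add, hgψ, e1, hg01]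
        simp
      rw [h3]
      constructor
      · intro h4
        have h5 : m • φ = ψ := congrArg Prod.fst h4
        exact ⟨m, Prod.ext h5 (by simp)⟩
      · rintro ⟨a, ha⟩
        have h5 : a • φ = ψ := congrArg Prod.fst ha
        have h6 : a * 1 = m := congrArg Prod.snd ha
        rw [mul_one] at h6
        subst h6
        apply Prod.ext
        · exact h5
        · rw [← h5]
          show (a • φ) 1 * (φ 1)⁻¹ = a
          rw [LinearMap.smul_apply, smul_eq_mul, mul_assoc, mul_inv_cancel₀ hφ1, mul_one]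
    have hne : ((φ, 1) : Dual F F × F) ≠ 0 := by
      intro h3
      exact one_ne_zero (congrArg Prod.snd h3)
    rw [ev, hfix, finrank_span_singleton hne] at hev
    exact absurd hev (by decide)

end tor

end Cfsg.Agent.H237.PL
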