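import Mathlib
import Cfsg.Agent.H237.PL.Cnt

/-!
# S3677, `lat_plus_even`: the centralizer orders of `PΩ⁺_{2n}(q)`, `n` even, `q ≡ 3 mod 4` or `q = 2` (helper237)
-/

set_option autoImplicit false
set_option linter.unusedSectionVars false

universe u v w

namespace Cfsg.Agent.H237.PL

open QuadraticMap Module Polynomial
open Cfsg.Agent.LieClassical.OrthCore Cfsg.Agent.LieClassical.OrthForms
open Cfsg.Agent.H160.QSpin Cfsg.Agent.H955
open Cfsg.Agent.H286.CS (ev Mult KK)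
open Cfsg.Agent.H431.CS Cfsg.Agent.H370.AAM

/-! ### reflections of the plane -/

section plane

variable {F : Type v} [Field F]

theorem HQ_vec (a : F) : HQ F F (a • (LinearMap.id : F →ₗ[F] F), 1) = a := by
  rw [HQ_apply]
  show a • (1 : F) = a
  rw [smul_eq_mul, mul_one]

theorem refl_vec {a : F} (h : HQ F F (a • (LinearMap.id : F →ₗ[F] F), 1) ≠ 0) (x : Dual F F × F) :
    refl (HQ F F) (a • (LinearMap.id : F →ₗ[F] F), 1) h x = (-((a * x.2) • (LinearMap.id : F →ₗ[F] F)), -(a⁻¹ * x.1 1)) := by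
  have ha : a ≠ 0 := by rwa [HQ_vec] at h
  have e1 : polar (HQ F F) (a • (LinearMap.id : F →ₗ[F] F), 1) x = a * x.2 + x.1 1 := by
    rw [polar_HQ]
    rfl
  rw [refl_apply, HQ_vec, e1]
  apply Prod.ext
  · ext
    show x.1 1 - (a⁻¹ * (a * x.2 + x.1 1)) • (a • (1 : F)) = -((a * x.2) • (1 : F))
    simp only [smul_eq_mul]
    field_simp
    ring
  · show x.2 - (a⁻¹ * (a * x.2 + x.1 1)) • (1 : F) = -(a⁻¹ * x.1 1)
    simp only [smul_eq_mul]
    field_simp
    ring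

theorem refl_refl {c : Fˣ} (h : HQ F F ((1 : F) • (LinearMap.id : F →ₗ[F] F), 1) ≠ 0)
    (h' : HQ F F ((c : F) • (LinearMap.id : F →ₗ[F] F), 1) ≠ 0) (x : Dual F F × F) :
    refl (HQ F F) _ h (refl (HQ F F) _ h' x) = Tl c x := by
  rw [refl_vec, refl_vec, Tl_self]
  apply Prod.ext
  · ext
    show -((1 * (-((c : F)⁻¹ * x.1 1))) • (1 : F)) = ((c⁻¹ : Fˣ) : F) • x.1 1
    simp
  · show -((1 : F)⁻¹ * -(((c : F) * x.2) • (1 : F))) = (c : F) • x.2
    simp

end plane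

theorem ev_of_odd_pow {F : Type v} [Field F] {V : Type w} [AddCommGroup V] [Module F V] [FiniteDimensional F V]
    {Q : QuadraticForm F V} (hM : Mult Q) (hd : Even (finrank F V)) {X : V ≃ₗ[F] V} (hX : X ∈ O Q) {e : ℕ}
    (he : Odd e) (h1 : X ^ e = 1) : ev X := by
  have h2 : ev (X ^ 2) := by
    rw [pow_two, hM X hX X hX]
  have h3 : ∀ k : ℕ, ev ((X ^ 2) ^ k) := by
    intro k
    induction k with
    | zero => rw [pow_zero]; exact H286.CS.ev_one hd
    | succ k ih =>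
      rw [pow_succ, hM _ (Subgroup.pow_mem _ (Subgroup.pow_mem _ hX _) _) _ (Subgroup.pow_mem _ hX _)]
      exact iff_of_true ih h2
  obtain ⟨k, rfl⟩ := he
  rw [pow_succ, pow_mul] at h1
  have h4 := hM _ (Subgroup.pow_mem _ (Subgroup.pow_mem _ hX 2) k) X hX
  rw [h1] at h4
  exact (h4.1 (H286.CS.ev_one hd)).1 (h3 k)

section model

variable {F : Type v} [Field F] {K : Type w} [Field K] [Algebra F K] [FiniteDimensional F K]

theorem exists_iso_Qm {n : ℕ} (h : finrank F K + 1 = n) :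
    ∃ e : (Fin n ⊕ Fin n → F) ≃ₗ[F] ((Dual F K × K) × (Dual F F × F)), IsIso (plusForm n F) (Qm F K) e := by
  have b : Basis (Fin n) F (K × F) := finBasisOfFinrankEq F (K × F) (by rw [Module.finrank_prod, Module.finrank_self, h])
  refine ⟨(toStd b).trans (eQ F K), fun x => ?_⟩
  rw [LinearEquiv.trans_apply, isIso_eQ, isIso_toStd]

variable (F K) in
/-- the torus -/
def XO : Kˣ × Fˣ →* O (Qm F K) where
  toFun p := ⟨pr (Tl p.1) (Tl p.2), pr_mem_O (Subtype.property _) (Subtype.property _)⟩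
  map_one' := by
    apply Subtype.ext
    show pr ((Tw (1 : Kˣ) : O (HQ F K)) : (Dual F K × K) ≃ₗ[F] (Dual F K × K))
      ((Tw (1 : Fˣ) : O (HQ F F)) : (Dual F F × F) ≃ₗ[F] (Dual F F × F)) = 1
    rw [map_one, map_one]
    rfl
  map_mul' p p' := by
    apply Subtype.ext
    show pr ((Tw (p.1 * p'.1) : O (HQ F K)) : (Dual F K × K) ≃ₗ[F] (Dual F K × K))
      ((Tw (p.2 * p'.2) : O (HQ F F)) : (Dual F F × F) ≃ₗ[F] (Dual F F × F)) = _
    rw [map_mul, map_mul]
    rfl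

theorem coe_XO (p : Kˣ × Fˣ) : ((XO F K p : O (Qm F K)) : ((Dual F K × K) × (Dual F F × F)) ≃ₗ[F] _) =
    pr (Tl p.1) (Tl p.2) := rfl

theorem XO_injective : Function.Injective (XO F K) := by
  intro p p' h
  obtain ⟨h1, h2⟩ := pr_inj (congrArg Subtype.val h)
  exact Prod.ext (Tw_injective (F := F) (Subtype.ext h1)) (Tw_injective (F := F) (K := F) (Subtype.ext h2))

/-- the hypothesis of `formula` -/
theorem formula_hyp (w : Kˣ) (β : Fˣ) : ∀ c : F, c ≠ 0 → ∃ (u u' : (Dual F K × K) × (Dual F F × F))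
    (hu : Qm F K u ≠ 0) (hu' : Qm F K u' ≠ 0), Qm F K u = 1 ∧ Qm F K u' = c ∧
      ∀ v, refl (Qm F K) u hu (refl (Qm F K) u' hu' (pr (Tl w) (Tl β) v)) =
        pr (Tl w) (Tl β) (refl (Qm F K) u hu (refl (Qm F K) u' hu' v)) := by
  intro c hc
  have k : ∀ a : F, Qm F K (0, (a • (LinearMap.id : F →ₗ[F] F), 1)) = a := by
    intro a
    rw [Qpr_apply]
    show HQ F K 0 + HQ F F (a • (LinearMap.id : F →ₗ[F] F), 1) = a
    rw [HQ_vec, QuadraticMap.map_zero, zero_add]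
  refine ⟨(0, ((1 : F) • (LinearMap.id : F →ₗ[F] F), 1)), (0, (c • (LinearMap.id : F →ₗ[F] F), 1)),
    by rw [k]; exact one_ne_zero, by rw [k]; exact hc, k 1, k c, ?_⟩
  intro v
  have h1 : HQ F F ((1 : F) • (LinearMap.id : F →ₗ[F] F), 1) ≠ 0 := by rw [HQ_vec]; exact one_ne_zero
  have h2 : HQ F F (c • (LinearMap.id : F →ₗ[F] F), 1) ≠ 0 := by rw [HQ_vec]; exact hc
  rw [← refl_right (Q₁ := HQ F K) h1, ← refl_right (Q₁ := HQ F K) h2]
  have key : ∀ y : (Dual F K × K) × (Dual F F × F), pr (1 : (Dual F K × K) ≃ₗ[F] (Dual F K × K)) (refl (HQ F F) _ h1)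
      (pr (1 : (Dual F K × K) ≃ₗ[F] (Dual F K × K)) (refl (HQ F F) _ h2) y) = (y.1, Tl (Units.mk0 c hc) y.2) := by
    intro y
    rw [pr_apply, pr_apply]
    apply Prod.ext
    · rfl
    · exact refl_refl (c := Units.mk0 c hc) h1 h2 y.2
  rw [key, key, pr_apply, pr_apply]
  apply Prod.ext
  · rfl
  · exact comm_Tw _ _ _

end model

/-! ### the quotient -/

/-- the simple group -/
abbrev SE (F : Type v) [Field F] (K : Type w) [Field K] [Algebra F K] :=
  commutator (O (Qm F K)) ⧸ Subgroup.center (commutator (O (Qm F K)))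

section quo

variable {F : Type v} [Field F] [Fintype F] {K : Type w} [Field K] [Algebra F K] [FiniteDimensional F K]
  {p f n r : ℕ}

theorem finite_OE : Finite (O (Qm F K)) := by
  have : Finite K := Module.finite_of_finite F
  have : Finite (Dual F K) := Module.finite_of_finite F
  have : Finite (Dual F F) := Module.finite_of_finite F
  have : Finite (((Dual F K × K) × (Dual F F × F)) ≃ₗ[F] ((Dual F K × K) × (Dual F F × F))) :=
    Finite.of_injective (fun g => (g : (Dual F K × K) × (Dual F F × F) → (Dual F K × K) × (Dual F F × F)))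
      DFunLike.coe_injective
  infer_instance

omit [Fintype F] in
theorem cqQ (hn : 2 ≤ n) (hK : finrank F K + 1 = n) : CQ (commutator (O (Qm F K))) (nu (Qm F K)) := by
  obtain ⟨e, he⟩ := exists_iso_Qm hK
  exact cqE rfl hn he

variable (F K) in
/-- the elements of the torus in `Ω` -/
def BE : Subgroup Kˣ := (commutator (O (Qm F K))).comap ((XO F K).comp (MonoidHom.inl Kˣ Fˣ))

omit [Fintype F] in
theorem mem_BE {w : Kˣ} : w ∈ BE F K ↔ XO F K (w, 1) ∈ commutator (O (Qm F K)) := Iff.rfl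

variable (F K) in
/-- the map to the quotient -/
def thE : BE F K →* SE F K :=
  (QuotientGroup.mk' _).comp
    ((((XO F K).comp (MonoidHom.inl Kˣ Fˣ)).comp (BE F K).subtype).codRestrict (commutator (O (Qm F K))) fun w => w.2)

omit [Fintype F] in
theorem thE_apply (w : BE F K) :
    thE F K w = QuotientGroup.mk (⟨XO F K ((w : Kˣ), 1), w.2⟩ : commutator (O (Qm F K))) := rfl

omit [Fintype F] in
theorem mem_ker_thE (hn : 2 ≤ n) (hK : finrank F K + 1 = n) {w : BE F K} (h : w ∈ (thE F K).ker) : w ^ 2 = 1 := by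
  rw [MonoidHom.mem_ker, thE_apply, QuotientGroup.eq_one_iff, (cqQ hn hK).mem] at h
  have h1 : XO F K ((w : Kˣ), 1) * XO F K ((w : Kˣ), 1) = 1 := by
    rcases h with h | h
    · have h' : XO F K ((w : Kˣ), 1) = 1 := h
      rw [h', one_mul]
    · have h' : XO F K ((w : Kˣ), 1) = nu (Qm F K) := h
      rw [h', (cqQ hn hK).sq]
  rw [← map_mul, ← map_one (XO F K)] at h1
  have h2 := congrArg Prod.fst (XO_injective h1)
  apply Subtype.ext
  rw [Subgroup.coe_pow, Subgroup.coe_one, pow_two]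
  exact h2

variable (F K) in
/-- the torus -/
def AE : Subgroup (SE F K) := (thE F K).range

theorem card_AE_dvd (hK : finrank F K + 1 = n) : Nat.card (AE F K) ∣ Nat.card F ^ (n - 1) - 1 := by
  rw [← card_units (F := F) (K := K) (n := n - 1) (by omega)]
  exact (Subgroup.card_range_dvd _).trans (Subgroup.card_subgroup_dvd_card _)

theorem isCyclic_AE : IsCyclic (AE F K) := by
  have : Finite K := Module.finite_of_finite F
  exact isCyclic_of_surjective _ (thE F K).rangeRestrict_surjective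

/-- the torus contains a Sylow subgroup -/
theorem dvd_card_AE (hK : finrank F K + 1 = n) (hn : 3 ≤ n) (hr : r.Prime)
    (hr2 : r ≠ 2) {a : ℕ} (ha : r ^ a ∣ Nat.card F ^ (n - 1) - 1) : r ^ a ∣ Nat.card (AE F K) := by
  have : Finite K := Module.finite_of_finite F
  have := finite_OE (F := F) (K := K)
  obtain ⟨e, he⟩ := exists_iso_Qm hK
  have hcop : ∀ j, j ∣ 4 → (r ^ a).Coprime j := by
    intro j hj
    apply Nat.Coprime.coprime_dvd_right hj
    rw [show 4 = 2 ^ 2 by norm_num]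
    exact ((Nat.coprime_primes hr Nat.prime_two).2 hr2).pow _ _
  rw [← card_units (F := F) (K := K) (n := n - 1) (by omega), ← Subgroup.card_mul_index (BE F K)] at ha
  have h1 : (BE F K).index ∣ 4 := by
    rw [BE, Subgroup.index_comap]
    exact (Subgroup.relIndex_dvd_index_of_normal _ _).trans (index_dvdE rfl hn he)
  have h2 := (hcop _ h1).dvd_of_dvd_mul_right ha
  have h3 : Nat.card (AE F K) * Nat.card (thE F K).ker = Nat.card (BE F K) := by
    rw [AE, ← Subgroup.index_ker, mul_comm]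
    exact Subgroup.card_mul_index _
  rw [← h3] at h2
  refine Nat.Coprime.dvd_of_dvd_mul_right (Nat.Coprime.pow_left a ((Nat.Prime.coprime_iff_not_dvd hr).2 ?_)) h2
  intro h4
  have := Fact.mk hr
  obtain ⟨w, hw⟩ := exists_prime_orderOf_dvd_card' r h4
  have h5 : (w : BE F K) ^ 2 = 1 := mem_ker_thE (by omega) hK w.2
  have h6 : w ^ 2 = 1 := Subtype.ext h5
  have h7 := orderOf_dvd_of_pow_eq_one h6
  rw [hw] at h7
  exact hr2 ((Nat.prime_dvd_prime_iff_eq hr Nat.prime_two).1 h7)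

/-- parity in the model -/
theorem mult_Qm (hn : 4 ≤ n) (hK : finrank F K + 1 = n) : Mult (Qm F K) := by
  obtain ⟨e, he⟩ := exists_iso_Qm hK
  refine mult_cj he (H286.CS.mult_lin _ (nondeg_plus n) (Or.inr ?_) ?_)
  · rw [H286.CS.card_iota]; omega
  · rw [H286.CS.card_iota]; exact even_two_mul _

theorem even_Qm : Even (finrank F ((Dual F K × K) × (Dual F F × F))) := by
  rw [Module.finrank_prod, finrank_model, finrank_model]
  exact (even_two_mul _).add (even_two_mul _)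

/-- half of the orthogonal group -/
theorem card_half_O {N : ℕ} (hN : 3 ≤ N) (hK : finrank F K = N) :
    Nat.card {g : O (HQ F K) // ev (g : (Dual F K × K) ≃ₗ[F] (Dual F K × K))} =
      Fintype.card F ^ (N * (N - 1)) * (Fintype.card F ^ N - 1) *
        ∏ i ∈ Finset.range (N - 1), (Fintype.card F ^ (2 * (i + 1)) - 1) := by
  have := finite_O (F := F) (K := K)
  let b := finBasisOfFinrankEq F K hK
  have hM : Mult (HQ F K) := mult_cj (isIso_toStd b) (H286.CS.mult_lin _ (nondeg_plus N)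
    (Or.inr (by rw [H286.CS.card_iota]; omega)) (by rw [H286.CS.card_iota]; exact even_two_mul _))
  have hex : ∃ v : Dual F K × K, HQ F K v ≠ 0 := by
    by_contra h1
    push Not at h1
    have h2 : (1 : K) = 0 := by
      refine (Module.forall_dual_apply_eq_zero_iff F (1 : K)).1 fun φ => ?_
      exact h1 (φ, 1)
    exact one_ne_zero h2
  obtain ⟨v, hv⟩ := hex
  have h1 := H286.CS.card_half (fun g : O (HQ F K) => ev (g : (Dual F K × K) ≃ₗ[F] (Dual F K × K)))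
    (fun g h => hM _ g.2 _ h.2) ⟨⟨refl (HQ F K) v hv, refl_mem_O hv⟩,
      H286.CS.not_ev_refl nondeg_HQ (by rw [finrank_model]; exact even_two_mul _) hv⟩
  have h2 := Cfsg.Agent.S0287.result (F := F) rfl N (by omega)
  rw [Nat.card_congr (isoEquiv b).toEquiv, h1, mul_assoc, mul_assoc] at h2
  rw [mul_assoc]
  exact Nat.eq_of_mul_eq_mul_left two_pos h2

end quo

/-- the hypotheses -/
structure HyE (F : Type v) [Field F] [Fintype F] (K : Type w) [Field K] [Algebra F K] (p f n r : ℕ) : Prop where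
  hp : p.Prime
  hf : 1 ≤ f
  hF : Fintype.card F = p ^ f
  hn : 4 ≤ n
  hev : Even n
  h3 : p ^ f % 4 = 3 ∨ p ^ f = 2
  hr : r.Prime
  ho : orderOf (((p ^ f : ℕ)) : ZMod r) = n - 1
  hK : finrank F K + 1 = n

section hyE

variable {F : Type v} [Field F] [Fintype F] {K : Type w} [Field K] [Algebra F K] [FiniteDimensional F K]
  {p f n r : ℕ} (h : HyE F K p f n r)
include h

theorem HyE.cardF : Nat.card F = p ^ f := by rw [Nat.card_eq_fintype_card, h.hF]

theorem HyE.hK' : finrank F K = n - 1 := by have := h.hK; omega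

theorem HyE.hodd : Odd (n - 1) := by
  obtain ⟨k, hk⟩ := h.hev
  have := h.hn
  exact ⟨k - 1, by omega⟩

theorem HyE.ho' : orderOf ((Nat.card F : ℕ) : ZMod r) = n - 1 := by rw [h.cardF]; exact h.ho

theorem HyE.dvd_iff {i : ℕ} : r ∣ (p ^ f) ^ i - 1 ↔ (n - 1) ∣ i := by
  have hq : 1 ≤ (p ^ f) ^ i := Nat.one_le_pow _ _ (Nat.pow_pos h.hp.pos)
  rw [← h.ho, orderOf_dvd_iff_pow_eq_one, ← ZMod.natCast_eq_zero_iff, Nat.cast_sub hq, Nat.cast_pow, Nat.cast_one,
    sub_eq_zero]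

theorem HyE.not_dvd_p : ¬ r ∣ p := by
  intro h1
  have h2 : r ∣ (p ^ f) ^ (n - 1) - 1 := h.dvd_iff.2 dvd_rfl
  exact not_dvd_pow_sub h.hr (q := p ^ f) (Nat.one_le_pow _ _ h.hp.pos) (dvd_pow h1 (by have := h.hf; omega))
    (by have := h.hn; omega) h2

theorem HyE.r_ne_two : r ≠ 2 := by
  intro h2
  subst h2
  have h1 : (p ^ f : ℕ) % 2 = 1 := by
    rw [← Nat.odd_iff]
    apply Odd.pow
    exact h.hp.eq_two_or_odd'.resolve_left (fun h3 => h.not_dvd_p (h3 ▸ dvd_rfl))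
  have h3 : (2 : ℕ) ∣ (p ^ f) ^ 1 - 1 := by rw [pow_one]; omega
  have h4 := Nat.le_of_dvd one_pos (h.dvd_iff.1 h3)
  have := h.hn
  omega

theorem HyE.r_odd : Odd r := h.hr.eq_two_or_odd'.resolve_left h.r_ne_two

/-- the torus has odd order -/
theorem HyE.odd_of {c : ℕ} (hc : Nat.gcd 4 ((p ^ f) ^ n - 1) * c = ((p ^ f) ^ (n - 1) - 1) * (p ^ f - 1)) : Odd c := by
  have hn := h.hn
  rcases h.h3 with h1 | h1
  · have e1 : (p ^ f) ^ n % 4 = 1 := by
      obtain ⟨k, hk⟩ := h.hev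
      have e0 : (p ^ f) ^ n = ((p ^ f) ^ 2) ^ k := by rw [hk, ← two_mul, pow_mul]
      rw [e0, Nat.pow_mod, Nat.pow_mod (p ^ f) 2, h1]
      norm_num
    have e2 : (p ^ f) ^ (n - 1) % 4 = 3 := by
      obtain ⟨k, hk⟩ := h.hodd
      have e0 : (p ^ f) ^ (n - 1) = ((p ^ f) ^ 2) ^ k * p ^ f := by rw [hk, pow_succ, pow_mul]
      rw [e0, Nat.mul_mod, Nat.pow_mod, Nat.pow_mod (p ^ f) 2, h1]
      norm_num
    have hg : Nat.gcd 4 ((p ^ f) ^ n - 1) = 4 := LieClassical.PomegaCard.gcd_four_of_dvd (by omega)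
    rw [hg] at hc
    obtain ⟨a, ha⟩ : ∃ a, (p ^ f) ^ (n - 1) - 1 = 2 * (2 * a + 1) := ⟨((p ^ f) ^ (n - 1) - 3) / 4, by omega⟩
    obtain ⟨b, hb⟩ : ∃ b, p ^ f - 1 = 2 * (2 * b + 1) := ⟨(p ^ f - 3) / 4, by omega⟩
    rw [ha, hb] at hc
    refine ⟨2 * a * b + a + b, ?_⟩
    have : 4 * c = 4 * (2 * (2 * a * b + a + b) + 1) := by rw [hc]; ring
    omega
  · rw [h1] at hc
    have e1 : 2 ^ n % 2 = 0 := by
      have : 2 ^ n = 2 * 2 ^ (n - 1) := by rw [← pow_succ']; congr 1; omega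
      omega
    have e2 : 2 ^ (n - 1) % 2 = 0 := by
      have : 2 ^ (n - 1) = 2 * 2 ^ (n - 2) := by rw [← pow_succ']; congr 1; omega
      omega
    have e3 : 1 ≤ 2 ^ n := Nat.one_le_two_pow
    have e4 : 1 ≤ 2 ^ (n - 1) := Nat.one_le_two_pow
    rw [LieClassical.PomegaCard.gcd_four_of_odd (by omega), one_mul] at hc
    rw [hc, show 2 - 1 = 1 by norm_num, mul_one, Nat.odd_iff]
    omega

theorem HyE.card_S : Nat.gcd 4 ((p ^ f) ^ n - 1) * Nat.card (SE F K) =
    (p ^ f) ^ (n * (n - 1)) * ((p ^ f) ^ n - 1) * ∏ i ∈ Finset.range (n - 1), ((p ^ f) ^ (2 * (i + 1)) - 1) := by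
  have h1 := Cfsg.Agent.S0293.result (F := F) h.hF n (by have := h.hn; omega)
  obtain ⟨e, he⟩ := exists_iso_Qm h.hK
  rw [← coe_plusForm, Nat.card_congr (modelE he).toEquiv] at h1
  exact h1

theorem HyE.p_dvd_q : p ∣ p ^ f := dvd_pow_self p (by have := h.hf; omega)

theorem HyE.q_pos : 1 ≤ p ^ f := Nat.one_le_pow _ _ h.hp.pos

theorem HyE.p_not_dvd_g : ¬ p ∣ Nat.gcd 4 ((p ^ f) ^ n - 1) := fun h2 =>
  not_dvd_pow_sub h.hp h.q_pos h.p_dvd_q (by have := h.hn; omega) (h2.trans (Nat.gcd_dvd_right _ _))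

theorem HyE.g_ne : Nat.gcd 4 ((p ^ f) ^ n - 1) ≠ 0 := by
  intro h3
  rw [Nat.gcd_eq_zero_iff] at h3
  omega

theorem HyE.fact_p : (Nat.card (SE F K)).factorization p = f * (n * (n - 1)) := by
  have h1 := h.card_S
  have h2 : (Nat.gcd 4 ((p ^ f) ^ n - 1) * Nat.card (SE F K)).factorization p = f * (n * (n - 1)) := by
    refine fact_pow_mul h.hp (X := ((p ^ f) ^ n - 1) * ∏ i ∈ Finset.range (n - 1), ((p ^ f) ^ (2 * (i + 1)) - 1)) ?_ ?_
    · rw [h.hp.dvd_mul, Prime.dvd_finsetProd_iff h.hp.prime]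
      rintro (h3 | ⟨i, -, h3⟩)
      · exact not_dvd_pow_sub h.hp h.q_pos h.p_dvd_q (by have := h.hn; omega) h3
      · exact not_dvd_pow_sub h.hp h.q_pos h.p_dvd_q (by omega) h3
    · rw [h1, ← pow_mul p f (n * (n - 1)), mul_assoc]
  have := finite_OE (F := F) (K := K)
  rw [fact_mul_of_coprime h.g_ne Nat.card_pos.ne' h.p_not_dvd_g] at h2
  exact h2

/-- the `r`-part of `|S|` divides `q ^ (n - 1) - 1` -/
theorem HyE.r_part {a : ℕ} (ha : r ^ a ∣ Nat.card (SE F K)) : r ^ a ∣ (p ^ f) ^ (n - 1) - 1 := by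
  have h1 := h.card_S
  have hn := h.hn
  have hcop : (n - 1).Coprime 2 := h.hodd.coprime_two_right
  obtain ⟨m, hm⟩ : ∃ m, n - 1 = m + 1 := ⟨n - 2, by omega⟩
  have h2 : r ^ a ∣ (p ^ f) ^ (n * (n - 1)) * ((p ^ f) ^ n - 1) * ∏ i ∈ Finset.range (n - 1), ((p ^ f) ^ (2 * (i + 1)) - 1) :=
    h1 ▸ (ha.mul_left _)
  have c1 : (r ^ a).Coprime ((p ^ f) ^ (n * (n - 1))) := by
    apply Nat.Coprime.pow_left
    rw [Nat.Prime.coprime_iff_not_dvd h.hr]
    intro h5
    exact h.not_dvd_p (h.hr.dvd_of_dvd_pow (h.hr.dvd_of_dvd_pow h5))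
  have c2 : (r ^ a).Coprime ((p ^ f) ^ n - 1) := by
    apply Nat.Coprime.pow_left
    rw [Nat.Prime.coprime_iff_not_dvd h.hr, h.dvd_iff]
    intro h5
    have h6 : n - 1 ∣ 1 := by
      have h7 := Nat.dvd_sub h5 (dvd_refl (n - 1))
      rwa [show n - (n - 1) = 1 by omega] at h7
    have := Nat.le_of_dvd one_pos h6
    omega
  rw [hm, Finset.prod_range_succ, ← hm] at h2
  have c3 : (r ^ a).Coprime (∏ i ∈ Finset.range m, ((p ^ f) ^ (2 * (i + 1)) - 1)) := by
    apply Nat.Coprime.pow_left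
    rw [Nat.Prime.coprime_iff_not_dvd h.hr, Prime.dvd_finsetProd_iff h.hr.prime]
    rintro ⟨i, hi, h4⟩
    rw [Finset.mem_range] at hi
    have h5 := h.dvd_iff.1 h4
    have h7 := Nat.le_of_dvd (by omega) (hcop.dvd_of_dvd_mul_left h5)
    omega
  have h4 := (c1.mul_right c2).dvd_of_dvd_mul_left h2
  have h5 := c3.dvd_of_dvd_mul_left h4
  have e1 : (p ^ f) ^ (2 * (n - 1)) - 1 = ((p ^ f) ^ (n - 1) - 1) * ((p ^ f) ^ (n - 1) + 1) := by
    rw [mul_comm 2, pow_mul (p ^ f), mul_comm ((p ^ f) ^ (n - 1) - 1), ← Nat.sq_sub_sq, one_pow]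
  rw [e1] at h5
  refine Nat.Coprime.dvd_of_dvd_mul_right (Nat.Coprime.pow_left a ((Nat.Prime.coprime_iff_not_dvd h.hr).2 ?_)) h5
  intro h6
  have h7 : r ∣ (p ^ f) ^ (n - 1) - 1 := h.dvd_iff.2 dvd_rfl
  have h8 : 1 ≤ (p ^ f) ^ (n - 1) := Nat.one_le_pow _ _ h.q_pos
  have h9 : r ∣ 2 := by
    have := Nat.dvd_sub h6 h7
    rwa [show (p ^ f) ^ (n - 1) + 1 - ((p ^ f) ^ (n - 1) - 1) = 2 by omega] at this
  exact h.r_ne_two ((Nat.prime_dvd_prime_iff_eq h.hr Nat.prime_two).1 h9)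

theorem HyE.full : r ^ (Nat.card (SE F K)).factorization r ∣ Nat.card (AE F K) := by
  apply dvd_card_AE h.hK (by have := h.hn; omega) h.hr h.r_ne_two
  rw [h.cardF]
  exact h.r_part (Nat.ordProj_dvd _ _)

/-- the element of order `r` -/
theorem HyE.exists_zeta : ∃ ζ : Kˣ, orderOf ζ = r := by
  have : Finite K := Module.finite_of_finite F
  have := Fact.mk h.hr
  apply exists_prime_orderOf_dvd_card' r
  rw [card_units h.hK', h.cardF]
  exact h.dvd_iff.2 dvd_rfl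

theorem HyE.zeta_mem {ζ : Kˣ} (hζ : orderOf ζ = r) : ζ ∈ BE F K := by
  rw [mem_BE]
  have := finite_OE (F := F) (K := K)
  obtain ⟨e, he⟩ := exists_iso_Qm h.hK
  have hi := index_dvdE rfl (by have := h.hn; omega) he
  refine mem_of_coprime_pow (a := (commutator (O (Qm F K))).index) (b := r) ?_ (Subgroup.pow_index_mem _ _) ?_
  · apply Nat.Coprime.coprime_dvd_left hi
    rw [show 4 = 2 ^ 2 by norm_num]
    exact ((Nat.coprime_primes Nat.prime_two h.hr).2 h.r_ne_two.symm).pow_left _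
  · have h1 : ((ζ, 1) : Kˣ × Fˣ) ^ r = 1 := by
      rw [Prod.pow_mk, one_pow, ← hζ, pow_orderOf_eq_one]
      rfl
    rw [← map_pow, h1, map_one]
    exact Subgroup.one_mem _

theorem HyE.deg {ζ : Kˣ} (hζ : orderOf ζ = r) : (minpoly F (ζ : K)).natDegree = finrank F K :=
  (degree_of_order h.hK' h.ho' hζ).trans h.hK'.symm

theorem HyE.zeta_sq {ζ : Kˣ} (hζ : orderOf ζ = r) : ζ ^ 2 ≠ 1 := by
  intro h4
  have h5 := orderOf_dvd_of_pow_eq_one h4
  rw [hζ] at h5
  exact h.r_ne_two ((Nat.prime_dvd_prime_iff_eq h.hr Nat.prime_two).1 h5)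

set_option maxHeartbeats 2000000 in
/-- the formula in the model -/
theorem HyE.formula (X : commutator (O (Qm F K))) {w : Kˣ} {β : Fˣ}
    (hX : ((X : O (Qm F K)) : ((Dual F K × K) × (Dual F F × F)) ≃ₗ[F] _) = pr (Tl w) (Tl β)) {e : ℕ} (he : Odd e)
    (hXe : (pr (Tl w) (Tl β) : ((Dual F K × K) × (Dual F F × F)) ≃ₗ[F] _) ^ e = 1) :
    Nat.gcd 4 ((p ^ f) ^ n - 1) * Nat.card (Subgroup.centralizer ({(QuotientGroup.mk X : SE F K)} : Set (SE F K))) =
      Nat.card (KK0 (Qm F K) (pr (Tl w) (Tl β))) := by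
  obtain ⟨e', he'⟩ := exists_iso_Qm h.hK
  have h1 := PL.formula (F := F) quadPlus_eq.symm h.hn he' X (fun _ => by rw [hX]; exact formula_hyp w β)
  rw [hX, KK_eq_KK0 he hXe, h.hF] at h1
  exact h1

/-- the order of the torus -/
theorem HyE.card_zeta {ζ : Kˣ} (hζ : orderOf ζ = r) :
    Nat.gcd 4 ((p ^ f) ^ n - 1) * Nat.card (Subgroup.centralizer ({thE F K ⟨ζ, h.zeta_mem hζ⟩} : Set (SE F K))) =
      ((p ^ f) ^ (n - 1) - 1) * (p ^ f - 1) := by
  have hn := h.hn
  have hdeg := h.deg hζ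
  have hne : ∀ b : F, (ζ : K) ≠ algebraMap F K b := by
    intro b hb
    have h1 : (minpoly F (ζ : K)).natDegree = 1 := by
      rw [hb, minpoly.eq_X_sub_C, natDegree_X_sub_C]
    have h2 := h.hK
    omega
  have hpow : (pr (Tl ζ) (Tl 1) : ((Dual F K × K) × (Dual F F × F)) ≃ₗ[F] _) ^ r = 1 := by
    have h1 : ((ζ, 1) : Kˣ × Fˣ) ^ r = 1 := by
      rw [Prod.pow_mk, one_pow, ← hζ, pow_orderOf_eq_one]
      rfl
    have h2 : (XO F K (ζ, 1)) ^ r = 1 := by rw [← map_pow, h1, map_one]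
    exact congrArg Subtype.val h2
  rw [thE_apply, h.formula _ (w := ζ) (β := 1) rfl h.r_odd hpow,
    count_gen (h.hK' ▸ h.hodd) (h.zeta_sq hζ) (hne _) (hne _)]
  obtain ⟨m, h1, h2⟩ := card_gl (F := F) (ζ : K)
  have hm : m = 1 := by
    rw [hdeg] at h1
    have h3 := h.hK
    exact Nat.eq_of_mul_eq_mul_left (show 0 < finrank F K by omega) (by rw [mul_one]; exact h1.symm)
  rw [h2, hm, hdeg, h.hF, h.hK', H326.CGU.glCard_eq, Nat.card_units, h.cardF]
  simp

theorem HyE.order_zeta {ζ : Kˣ} (hζ : orderOf ζ = r) : orderOf (thE F K ⟨ζ, h.zeta_mem hζ⟩) = r := by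
  have hn := h.hn
  have h1 : (thE F K ⟨ζ, h.zeta_mem hζ⟩) ^ r = 1 := by
    rw [← map_pow]
    have : (⟨ζ, h.zeta_mem hζ⟩ : BE F K) ^ r = 1 := Subtype.ext (by
      show ζ ^ r = 1
      rw [← hζ, pow_orderOf_eq_one])
    rw [this, map_one]
  have := Fact.mk h.hr
  refine orderOf_eq_prime h1 ?_
  intro h2
  have h3 := mem_ker_thE (n := n) (by omega) h.hK (MonoidHom.mem_ker.2 h2)
  exact h.zeta_sq hζ (congrArg Subtype.val h3)

theorem HyE.conj {ζ : Kˣ} (hζ : orderOf ζ = r) {x : SE F K}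
    (hx : r ∣ Nat.card (Subgroup.centralizer ({x} : Set (SE F K)))) :
    ∃ s, Commute (s * x * s⁻¹) (thE F K ⟨ζ, h.zeta_mem hζ⟩) := by
  have := finite_OE (F := F) (K := K)
  exact exists_conj h.hr (AE F K) isCyclic_AE h.full ⟨_, rfl⟩ (h.order_zeta hζ) hx

/-- the order of the centralizer of the element of order `r` -/
theorem HyE.pow_card {ζ : Kˣ} (hζ : orderOf ζ = r) {x : SE F K} (hx : Commute x (thE F K ⟨ζ, h.zeta_mem hζ⟩)) :
    x ^ Nat.card (Subgroup.centralizer ({thE F K ⟨ζ, h.zeta_mem hζ⟩} : Set (SE F K))) = 1 := by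
  have h1 : x ∈ Subgroup.centralizer ({thE F K ⟨ζ, h.zeta_mem hζ⟩} : Set (SE F K)) :=
    Subgroup.mem_centralizer_singleton_iff.2 hx.eq
  have h2 := pow_card_eq_one' (x := (⟨x, h1⟩ : Subgroup.centralizer ({thE F K ⟨ζ, h.zeta_mem hζ⟩} : Set (SE F K))))
  exact congrArg Subtype.val h2

theorem HyE.p_not_dvd {ζ : Kˣ} (hζ : orderOf ζ = r) :
    ¬ p ∣ Nat.card (Subgroup.centralizer ({thE F K ⟨ζ, h.zeta_mem hζ⟩} : Set (SE F K))) := by
  intro h1
  have hn := h.hn
  have h2 := h1.mul_left (Nat.gcd 4 ((p ^ f) ^ n - 1))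
  rw [h.card_zeta hζ, h.hp.dvd_mul] at h2
  rcases h2 with h2 | h2
  · exact not_dvd_pow_sub h.hp h.q_pos h.p_dvd_q (by omega) h2
  · exact not_dvd_pow_sub h.hp h.q_pos h.p_dvd_q one_pos (by rwa [pow_one])

set_option maxHeartbeats 2000000 in
/-- the elements which commute with the element of order `r` -/
theorem HyE.rep {ζ : Kˣ} (hζ : orderOf ζ = r) {x : SE F K} (hx : Commute x (thE F K ⟨ζ, h.zeta_mem hζ⟩)) :
    ∃ (w : Kˣ) (β : Fˣ) (e : ℕ) (X : commutator (O (Qm F K))), Odd e ∧ w ^ e = 1 ∧ β ^ e = 1 ∧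
      ((X : O (Qm F K)) : ((Dual F K × K) × (Dual F F × F)) ≃ₗ[F] _) = pr (Tl w) (Tl β) ∧
      (QuotientGroup.mk X : SE F K) = x := by
  have hn := h.hn
  have hodd := h.odd_of (h.card_zeta hζ)
  set e := Nat.card (Subgroup.centralizer ({thE F K ⟨ζ, h.zeta_mem hζ⟩} : Set (SE F K))) with he
  have hcq := cqQ (F := F) (K := K) (n := n) (by omega) h.hK
  obtain ⟨X, hX, hXe⟩ := hcq.lift hodd (h.pow_card hζ hx)
  have hzr : (⟨XO F K (ζ, 1), h.zeta_mem hζ⟩ : commutator (O (Qm F K))) ^ r = 1 := by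
    apply Subtype.ext
    show XO F K (ζ, 1) ^ r = 1
    have h1 : ((ζ, 1) : Kˣ × Fˣ) ^ r = 1 := by
      rw [Prod.pow_mk, one_pow, ← hζ, pow_orderOf_eq_one]
      rfl
    rw [← map_pow, h1, map_one]
  have hcom : Commute X (⟨XO F K (ζ, 1), h.zeta_mem hζ⟩ : commutator (O (Qm F K))) := by
    apply hcq.comm h.r_odd hzr
    rw [hX]
    exact hx
  have hXO : ((X : O (Qm F K)) : ((Dual F K × K) × (Dual F F × F)) ≃ₗ[F] _) ∈ O (Qm F K) := (X : O (Qm F K)).2
  have hXe' : ((X : O (Qm F K)) : ((Dual F K × K) × (Dual F F × F)) ≃ₗ[F] ((Dual F K × K) × (Dual F F × F))) ^ e = 1 := by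
    have h0 : (X : O (Qm F K)) ^ e = 1 := congrArg Subtype.val hXe
    exact congrArg Subtype.val h0
  have hev := ev_of_odd_pow (mult_Qm h.hn h.hK) even_Qm hXO hodd hXe'
  have hc' : ∀ v, ((X : O (Qm F K)) : ((Dual F K × K) × (Dual F F × F)) ≃ₗ[F] ((Dual F K × K) × (Dual F F × F)))
      (pr (Tl ζ) (Tl 1) v) = pr (Tl ζ) (Tl 1)
        (((X : O (Qm F K)) : ((Dual F K × K) × (Dual F F × F)) ≃ₗ[F] ((Dual F K × K) × (Dual F F × F))) v) := by
    intro v
    have h0 : (X : O (Qm F K)) * XO F K (ζ, 1) = XO F K (ζ, 1) * (X : O (Qm F K)) := congrArg Subtype.val hcom.eq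
    exact LinearEquiv.congr_fun (congrArg Subtype.val h0) v
  obtain ⟨w, β, hwβ⟩ := cent_zeta' (h.hK' ▸ h.hodd) (h.deg hζ) (h.zeta_sq hζ) (by rw [h.hK']; omega) hXO hev hc'
  have h1 : XO F K (w, β) = (X : O (Qm F K)) := Subtype.ext hwβ.symm
  have h2 : ((w, β) : Kˣ × Fˣ) ^ e = 1 := by
    apply XO_injective
    rw [map_pow, map_one, h1]
    exact Subtype.ext hXe'
  exact ⟨w, β, e, X, hodd, congrArg Prod.fst h2, congrArg Prod.snd h2, hwβ, hX⟩

omit h in
theorem eq_one_of_sq_odd {G : Type*} [Group G] {a : G} {e : ℕ} (he : Odd e) (h1 : a ^ e = 1) (h2 : a ^ 2 = 1) : a = 1 := by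
  have h3 := pow_odd_of_sq (z := a) (by rw [← pow_two, h2]) he
  rw [← h3, h1]

set_option maxHeartbeats 2000000 in
/-- **The list of centralizers.** -/
theorem HyE.list {x : SE F K} (hx : r ∣ Nat.card (Subgroup.centralizer ({x} : Set (SE F K)))) (hx1 : x ≠ 1) :
    (∃ k m, k * m = n - 1 ∧ Nat.gcd 4 ((p ^ f) ^ n - 1) * Nat.card (Subgroup.centralizer ({x} : Set (SE F K))) =
      H326.CGU.glCard m ((p ^ f) ^ k) * (p ^ f - 1)) ∨
    Nat.gcd 4 ((p ^ f) ^ n - 1) * Nat.card (Subgroup.centralizer ({x} : Set (SE F K))) = H326.CGU.glCard n (p ^ f) ∨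
    Nat.gcd 4 ((p ^ f) ^ n - 1) * Nat.card (Subgroup.centralizer ({x} : Set (SE F K))) =
      (p ^ f) ^ ((n - 1) * (n - 2)) * ((p ^ f) ^ (n - 1) - 1) *
        (∏ i ∈ Finset.range (n - 2), ((p ^ f) ^ (2 * (i + 1)) - 1)) * (p ^ f - 1) := by
  have hn := h.hn
  obtain ⟨ζ, hζ⟩ := h.exists_zeta
  obtain ⟨s, hs⟩ := h.conj hζ hx
  obtain ⟨w, β, e, X, he, hwe, hβe, hX, hXx⟩ := h.rep hζ hs
  rw [← card_cent_conj s x, ← hXx]
  have hpe : (pr (Tl w) (Tl β) : ((Dual F K × K) × (Dual F F × F)) ≃ₗ[F] _) ^ e = 1 := by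
    have h2 : ((w, β) : Kˣ × Fˣ) ^ e = 1 := Prod.ext hwe hβe
    have h3 : (XO F K (w, β)) ^ e = 1 := by rw [← map_pow, h2, map_one]
    exact congrArg Subtype.val h3
  rw [h.formula X hX he hpe]
  have hcF : Nat.card Fˣ = p ^ f - 1 := by rw [Nat.card_units, h.cardF]
  by_cases hw : w ^ 2 = 1
  · -- `w = 1`
    right
    right
    have hw1 : w = 1 := eq_one_of_sq_odd he hwe hw
    have hβ : β ^ 2 ≠ 1 := by
      intro h3
      have hβ1 : β = 1 := eq_one_of_sq_odd he hβe h3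
      apply hx1
      have h4 : (X : O (Qm F K)) = 1 := by
        have h5 : XO F K (w, β) = (X : O (Qm F K)) := Subtype.ext hX.symm
        rw [← h5, hw1, hβ1]
        exact map_one (XO F K)
      have h5 : X = 1 := Subtype.ext h4
      rw [h5, QuotientGroup.mk_one] at hXx
      have h6 : s * x = s := mul_inv_eq_one.1 hXx.symm
      exact mul_eq_left.1 h6
    rw [hw1, count_A hβ, card_half_O (N := n - 1) (by omega) h.hK', h.hF, hcF, show n - 1 - 1 = n - 2 by omega]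
  · by_cases h1 : (w : K) = algebraMap F K β ∨ (w : K) = algebraMap F K ((β⁻¹ : Fˣ) : F)
    · right
      left
      have hβ : β ^ 2 ≠ 1 := by
        intro h3
        apply hw
        rcases h1 with h1 | h1
        · have h4 : w = aF β := Units.ext h1
          rw [h4]
          show (Units.map (algebraMap F K).toMonoidHom β) ^ 2 = 1
          rw [← map_pow, h3, map_one]
        · have h4 : w = aF β⁻¹ := Units.ext h1
          rw [h4]
          show (Units.map (algebraMap F K).toMonoidHom β⁻¹) ^ 2 = 1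
          rw [← map_pow, inv_pow, h3, inv_one, map_one]
      rw [count_GL hβ h1, H326.CGU.card_aut, Module.finrank_prod, Module.finrank_self, h.hK, h.hF]
    · left
      push Not at h1
      obtain ⟨m, h3, h4⟩ := card_gl (F := F) (w : K)
      refine ⟨(minpoly F (w : K)).natDegree, m, ?_, ?_⟩
      · rw [← h3]
        exact h.hK'
      · rw [count_gen (h.hK' ▸ h.hodd) hw h1.1 h1.2, h4, hcF, h.hF]

/-- the list with the `p`-parts: `v_p(c) = f (n - 1) t` -/
theorem HyE.vals {c : ℕ} (hc : c ≠ 0) {j : ℕ} (hj : n = 2 * j + 2)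
    (H : (∃ k m, k * m = n - 1 ∧ Nat.gcd 4 ((p ^ f) ^ n - 1) * c = H326.CGU.glCard m ((p ^ f) ^ k) * (p ^ f - 1)) ∨
      Nat.gcd 4 ((p ^ f) ^ n - 1) * c = H326.CGU.glCard n (p ^ f) ∨
      Nat.gcd 4 ((p ^ f) ^ n - 1) * c = (p ^ f) ^ ((n - 1) * (n - 2)) * ((p ^ f) ^ (n - 1) - 1) *
        (∏ i ∈ Finset.range (n - 2), ((p ^ f) ^ (2 * (i + 1)) - 1)) * (p ^ f - 1)) :
    (∃ k t, k * (2 * t + 1) = n - 1 ∧ t ≤ j ∧
      Nat.gcd 4 ((p ^ f) ^ n - 1) * c = H326.CGU.glCard (2 * t + 1) ((p ^ f) ^ k) * (p ^ f - 1) ∧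
      c.factorization p = f * (n - 1) * t) ∨
    (Nat.gcd 4 ((p ^ f) ^ n - 1) * c = H326.CGU.glCard n (p ^ f) ∧ c.factorization p = f * (n - 1) * (j + 1)) ∨
    c.factorization p = f * (n - 1) * (2 * j) := by
  have hn := h.hn
  have hv := fact_mul_of_coprime (p := p) h.g_ne hc h.p_not_dvd_g
  have hq1 : ¬ p ∣ p ^ f - 1 := by
    have := not_dvd_pow_sub h.hp h.q_pos h.p_dvd_q one_pos
    rwa [pow_one] at this
  have hq0 : p ^ f - 1 ≠ 0 := fun h1 => hq1 (h1 ▸ dvd_zero p)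
  rcases H with ⟨k, m, hkm, H⟩ | H | H
  · left
    have hm : Odd m := (Nat.odd_mul.1 (hkm ▸ h.hodd)).2
    have hk0 : 0 < k := by
      rcases Nat.eq_zero_or_pos k with h1 | h1
      · rw [h1, zero_mul] at hkm; omega
      · exact h1
    have hgl : H326.CGU.glCard m ((p ^ f) ^ k) ≠ 0 := by
      intro h1
      rw [h1, zero_mul] at H
      exact (mul_ne_zero h.g_ne hc) H
    rw [H, mul_comm, fact_mul_of_coprime hq0 hgl hq1, fact_glCard h.hp h.hf hk0, val_eq hkm.symm h.hodd] at hv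
    obtain ⟨t, rfl⟩ := hm
    refine ⟨k, t, hkm, ?_, H, ?_⟩
    · have : 2 * t + 1 ≤ n - 1 := Nat.le_of_dvd (by omega) (Dvd.intro_left _ hkm)
      omega
    · rw [← hv]
      congr 1
      omega
  · right
    left
    refine ⟨H, ?_⟩
    have h1 := fact_glCard (p := p) (f := f) (k := 1) (m := n) h.hp h.hf one_pos
    rw [pow_one, ← H, hv] at h1
    rw [h1, hj, show (2 * j + 2) * (2 * j + 2 - 1) = 2 * ((j + 1) * (2 * j + 1)) by
      rw [show 2 * j + 2 - 1 = 2 * j + 1 by omega]; ring, Nat.mul_div_cancel_left _ two_pos,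
      show 2 * j + 2 - 1 = 2 * j + 1 by omega]
    ring
  · right
    right
    have h1 := fact_pow_mul (p := p) (e := f * ((n - 1) * (n - 2))) (X := ((p ^ f) ^ (n - 1) - 1) *
        (∏ i ∈ Finset.range (n - 2), ((p ^ f) ^ (2 * (i + 1)) - 1)) * (p ^ f - 1)) h.hp (by
      rw [h.hp.dvd_mul, h.hp.dvd_mul, Prime.dvd_finsetProd_iff h.hp.prime]
      rintro ((h3 | ⟨i, -, h3⟩) | h3)
      · exact not_dvd_pow_sub h.hp h.q_pos h.p_dvd_q (by omega) h3
      · exact not_dvd_pow_sub h.hp h.q_pos h.p_dvd_q (by omega) h3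
      · exact hq1 h3) (H.trans (by rw [← pow_mul p f]; ring))
    rw [hv] at h1
    rw [h1, hj, show 2 * j + 2 - 2 = 2 * j by omega]
    ring

set_option maxHeartbeats 1000000 in
/-- **The centralizer orders of `Ω / Z(Ω)`.** -/
theorem HyE.lat : Lat (SE F K) p r (((p ^ f) ^ (n - 1) - 1) * (p ^ f - 1) / Nat.gcd 4 ((p ^ f) ^ n - 1)) := by
  have := finite_OE (F := F) (K := K)
  have hn := h.hn
  obtain ⟨ζ, hζ⟩ := h.exists_zeta
  obtain ⟨j, hj, hj1⟩ : ∃ j, n = 2 * j + 2 ∧ 1 ≤ j := by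
    obtain ⟨k, hk⟩ := h.hev
    exact ⟨k - 1, by omega, by omega⟩
  have hcz := h.card_zeta hζ
  have hm : ((p ^ f) ^ (n - 1) - 1) * (p ^ f - 1) / Nat.gcd 4 ((p ^ f) ^ n - 1) =
      Nat.card (Subgroup.centralizer ({thE F K ⟨ζ, h.zeta_mem hζ⟩} : Set (SE F K))) := by
    rw [← hcz]
    exact Nat.mul_div_cancel_left _ (Nat.pos_of_ne_zero h.g_ne)
  rw [hm]
  have hAle : AE F K ≤ Subgroup.centralizer ({thE F K ⟨ζ, h.zeta_mem hζ⟩} : Set (SE F K)) := by
    rintro _ ⟨w, rfl⟩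
    rw [Subgroup.mem_centralizer_singleton_iff, ← map_mul, ← map_mul, mul_comm]
  have hpS : p ∣ Nat.card (SE F K) := by
    rw [h.hp.dvd_iff_one_le_factorization Nat.card_pos.ne', h.fact_p]
    have h1 : 0 < f * (n * (n - 1)) := Nat.mul_pos h.hf (Nat.mul_pos (by omega) (by omega))
    omega
  have h0 : ∃ c ∈ Co (SE F K), ¬ r ∣ c := by
    have := Fact.mk h.hp
    obtain ⟨u, hu⟩ := exists_prime_orderOf_dvd_card' p hpS
    refine ⟨_, mem_co u, fun h1 => ?_⟩
    obtain ⟨s, hs⟩ := h.conj hζ h1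
    apply h.p_not_dvd hζ
    have h2 : orderOf (s * u * s⁻¹) = p := by
      rw [← hu]
      exact orderOf_injective (MulAut.conj s).toMonoidHom (MulAut.conj s).injective _
    exact (dvd_of_eq h2.symm).trans (orderOf_dvd_of_pow_eq_one (h.pow_card hζ hs))
  have key : ∀ c ∈ Co (SE F K), c ≠ Nat.card (SE F K) → r ∣ c →
    (∃ k t, k * (2 * t + 1) = n - 1 ∧ t ≤ j ∧
      Nat.gcd 4 ((p ^ f) ^ n - 1) * c = H326.CGU.glCard (2 * t + 1) ((p ^ f) ^ k) * (p ^ f - 1) ∧
      c.factorization p = f * (n - 1) * t) ∨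
    (Nat.gcd 4 ((p ^ f) ^ n - 1) * c = H326.CGU.glCard n (p ^ f) ∧ c.factorization p = f * (n - 1) * (j + 1)) ∨
    c.factorization p = f * (n - 1) * (2 * j) := by
    rintro _ ⟨x, rfl⟩ hc hrc
    refine h.vals Nat.card_pos.ne' hj (h.list hrc ?_)
    rintro rfl
    apply hc
    have h3 : Subgroup.centralizer ({1} : Set (SE F K)) = ⊤ :=
      (Subgroup.eq_top_iff' _).2 fun g => Subgroup.mem_centralizer_singleton_iff.2 (by rw [mul_one, one_mul])
    show Nat.card (Subgroup.centralizer ({1} : Set (SE F K))) = _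
    rw [h3, Subgroup.card_top]
  have hfn : 1 ≤ f * (n - 1) := Nat.mul_pos h.hf (by omega)
  have hlt : ∀ c ∈ Co (SE F K), c ≠ Nat.card (SE F K) → r ∣ c → c.factorization p ≤ f * (n - 1) * (2 * j) := by
    intro c hc h1 h2
    rcases key c hc h1 h2 with ⟨k, t, -, ht, -, hv⟩ | ⟨-, hv⟩ | hv
    · rw [hv]; exact Nat.mul_le_mul_left _ (by omega)
    · rw [hv]; exact Nat.mul_le_mul_left _ (by omega)
    · exact hv.le
  have hinj : ∀ {a b : ℕ}, f * (n - 1) * a = f * (n - 1) * b → a = b := fun {a b} hab => Nat.eq_of_mul_eq_mul_left hfn hab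
  refine ⟨?_, h0, mem_co _, ?_, h.p_not_dvd hζ, ?_, ?_, ?_⟩
  · rw [← h.order_zeta hζ]
    exact orderOf_dvd_natCard _
  · exact h.full.trans (Subgroup.card_dvd_of_le hAle)
  · intro c hc h1 h2 h3
    rcases key c hc h1 h2 with ⟨k, t, hkt, ht, hg, hv⟩ | ⟨-, hv⟩ | hv
    · rw [Nat.factorization_eq_zero_of_not_dvd h3] at hv
      have ht0 : t = 0 := hinj (by rw [← hv, mul_zero])
      rw [ht0] at hkt hg
      rw [mul_zero, zero_add, mul_one] at hkt
      have e1 : H326.CGU.glCard (2 * 0 + 1) ((p ^ f) ^ (n - 1)) = (p ^ f) ^ (n - 1) - 1 := by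
        rw [H326.CGU.glCard_eq]
        simp
      rw [hkt, e1, ← hcz] at hg
      exact Nat.eq_of_mul_eq_mul_left (Nat.pos_of_ne_zero h.g_ne) hg
    · rw [Nat.factorization_eq_zero_of_not_dvd h3] at hv
      have := hinj (show f * (n - 1) * 0 = f * (n - 1) * (j + 1) from by rw [← hv, mul_zero])
      omega
    · rw [Nat.factorization_eq_zero_of_not_dvd h3] at hv
      have := hinj (show f * (n - 1) * 0 = f * (n - 1) * (2 * j) from by rw [← hv, mul_zero])
      omega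
  · intro c hc h1 h2 h3
    have hc0 : c ≠ 0 := by
      obtain ⟨x, rfl⟩ := hc
      exact Nat.card_pos.ne'
    have h5 := (h.hp.pow_dvd_iff_le_factorization hc0).1 h3
    rw [h.fact_p] at h5
    have h6 := hlt c hc h1 h2
    have h7 : f * (n - 1) * (2 * j) < f * (n * (n - 1)) := by
      have e7 : f * (n * (n - 1)) = f * (n - 1) * n := by ring
      rw [e7]
      exact Nat.mul_lt_mul_of_pos_left (by omega) hfn
    omega
  · intro c hc h1 h2 _
    have hne : ∀ c', c' ∣ c → c' ≠ Nat.card (SE F K) := by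
      rintro c' hd rfl
      obtain ⟨x, rfl⟩ := hc
      exact h1 (Nat.dvd_antisymm (Subgroup.card_subgroup_dvd_card _) hd)
    rcases key c hc h1 h2 with ⟨k, t, hkt, ht, hg, hv⟩ | ⟨hg, hv⟩ | hv
    · right
      intro c' hc' hr' hd hfac
      rcases key c' hc' (hne c' hd) hr' with ⟨k', t', hkt', ht', hg', hv'⟩ | ⟨hg', hv'⟩ | hv'
      · rw [hv, hv'] at hfac
        have htt := hinj hfac
        subst htt
        rw [← hkt] at hkt'
        have hkk := Nat.eq_of_mul_eq_mul_right (by omega) hkt'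
        rw [hkk, ← hg] at hg'
        exact Nat.eq_of_mul_eq_mul_left (Nat.pos_of_ne_zero h.g_ne) hg'
      · rw [hv, hv'] at hfac
        have := hinj hfac
        omega
      · rw [hv, hv'] at hfac
        have := hinj hfac
        omega
    · by_cases hj2 : j = 1
      · left
        intro c' hc' hne' hr'
        have h6 := hlt c' hc' hne' hr'
        rw [hv]
        refine h6.trans (Nat.mul_le_mul_left _ (by omega))
      · right
        intro c' hc' hr' hd hfac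
        rcases key c' hc' (hne c' hd) hr' with ⟨k', t', hkt', ht', hg', hv'⟩ | ⟨hg', hv'⟩ | hv'
        · rw [hv, hv'] at hfac
          have := hinj hfac
          omega
        · rw [← hg] at hg'
          exact Nat.eq_of_mul_eq_mul_left (Nat.pos_of_ne_zero h.g_ne) hg'
        · rw [hv, hv'] at hfac
          have := hinj hfac
          omega
    · left
      intro c' hc' hne' hr'
      rw [hv]
      exact hlt c' hc' hne' hr'

end hyE

/-- transport -/
theorem lat_congr {S : Type u} [Group S] {T : Type v} [Group T] (e : S ≃* T) {p r m : ℕ} (h : Lat T p r m) :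
    Lat S p r m := by
  have h1 := co_congr e
  have h2 := Nat.card_congr e.toEquiv
  obtain ⟨a1, a2, a3, a4, a5, a6, a7, a8⟩ := h
  rw [← h1] at a2 a3 a6 a7 a8
  rw [← h2] at a1 a4 a6 a7 a8
  exact ⟨a1, a2, a3, a4, a5, a6, a7, a8⟩

/-- **L-D-even.** -/
theorem lat_plus_even {F : Type v} [Field F] [Fintype F] {p f n r : ℕ} (hp : p.Prime) (hf : 1 ≤ f)
    (hF : Fintype.card F = p ^ f) (hn : 4 ≤ n) (heven : Even n) (h3 : p ^ f % 4 = 3 ∨ p ^ f = 2) (hr : r.Prime)
    (ho : orderOf (((p ^ f : ℕ)) : ZMod r) = n - 1) :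
    Lat (Cfsg.POmega F (Cfsg.quadFormPlus n F)) p r
      (((p ^ f) ^ (n - 1) - 1) * (p ^ f - 1) / Nat.gcd 4 ((p ^ f) ^ n - 1)) := by
  have := Fact.mk hp
  have hch : CharP F p := charP_of_card_eq_prime_pow hF
  have : NeZero (n - 1) := ⟨by omega⟩
  have hK := FiniteField.finrank_extension F p (n - 1)
  have h : HyE F (FiniteField.Extension F p (n - 1)) p f n r := ⟨hp, hf, hF, hn, heven, h3, hr, ho, by rw [hK]; omega⟩
  obtain ⟨e, he⟩ := exists_iso_Qm h.hK
  have e1 := modelE he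
  rw [coe_plusForm] at e1
  exact lat_congr e1 h.lat

end Cfsg.Agent.H237.PL
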